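import Cfsg.Agent.Lib.Spor.SchurCert.Core

/-!
The linear checks of a certificate with vectors packed into natural numbers, in digits of thirty-two bits.
-/

set_option autoImplicit false

namespace CfsgLib.Spor.SchurCert.Packed

/-- A dense vector packed. -/
def pkD : List ℕ → ℕ
  | [] => 0
  | x :: d => x + 4294967296 * pkD d

/-- One digit of a packed vector. -/
def digit (X i : ℕ) : ℕ := (X >>> (32 * i)) % 4294967296

/-- A form packed. -/
def pkF : Form → ℕ
  | [] => 0
  | (v, c) :: L => (c <<< (32 * v)) + pkF L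

/-- The sum of the exponents of a form. -/
def mass : List (ℕ × ℕ) → ℕ
  | [] => 0
  | (_, c) :: L => c + mass L

/-- A form made dense. -/
def dF : Form → List ℕ
  | [] => []
  | (v, c) :: L => addv (List.replicate v 0 ++ [c]) (dF L)

/-- A packed combination. -/
def pkC (P : List ℕ) : List (ℕ × ℕ) → ℕ
  | [] => 0
  | (t, c) :: C => c * P.getD t 0 + pkC P C

theorem digit_pkD : ∀ (d : List ℕ) (i : ℕ), (∀ j, d.getD j 0 < 4294967296) → digit (pkD d) i = d.getD i 0
  | [], i, _ => by simp [pkD, digit]
  | x :: d, 0, h => by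
    have h0 : x < 4294967296 := by simpa using h 0
    simp [pkD, digit, Nat.add_mul_mod_self_left, Nat.mod_eq_of_lt h0]
  | x :: d, i + 1, h => by
    have h0 : x < 4294967296 := by simpa using h 0
    have ih := digit_pkD d i fun j => by simpa using h (j + 1)
    rw [List.getD_cons_succ, ← ih]
    simp only [pkD, digit, Nat.shiftRight_eq_div_pow]
    rw [show 32 * (i + 1) = 32 + 32 * i by ring, pow_add, ← Nat.div_div_eq_div_mul,
      show (2 : ℕ) ^ 32 = 4294967296 by norm_num, Nat.add_mul_div_left _ _ (by norm_num),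
      Nat.div_eq_of_lt h0, zero_add]

theorem pkD_addv : ∀ a b : List ℕ, pkD (addv a b) = pkD a + pkD b
  | [], b => by simp [addv, pkD]
  | _ :: _, [] => by simp [addv, pkD]
  | x :: a, y :: b => by
    simp only [addv, pkD, pkD_addv a b]
    ring

theorem pkD_scale (c : ℕ) : ∀ d : List ℕ, pkD (d.map (c * ·)) = c * pkD d
  | [] => by simp [pkD]
  | x :: d => by
    simp only [List.map_cons, pkD, pkD_scale c d]
    ring

theorem pkD_unit (c : ℕ) : ∀ v : ℕ, pkD (List.replicate v 0 ++ [c]) = c <<< (32 * v)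
  | 0 => by simp [pkD]
  | v + 1 => by
    rw [List.replicate_succ, List.cons_append, pkD, pkD_unit c v, Nat.shiftLeft_eq, Nat.shiftLeft_eq,
      show 32 * (v + 1) = 32 + 32 * v by ring, pow_add, show (2 : ℕ) ^ 32 = 4294967296 by norm_num]
    ring

theorem pkD_dF : ∀ L : Form, pkD (dF L) = pkF L
  | [] => rfl
  | (v, c) :: L => by rw [dF, pkF, pkD_addv, pkD_unit, pkD_dF L]

theorem getD_dF : ∀ (L : Form) (i : ℕ), (dF L).getD i 0 = coef L i
  | [], i => by simp [dF, coef]
  | (v, c) :: L, i => by
    rw [dF, coef, getD_addv, getD_dF L i]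
    congr 1
    rcases Nat.lt_trichotomy i v with h | rfl | h
    · rw [List.getD_append _ _ _ _ (by simpa using h), if_neg (by omega)]
      simp [h]
    · rw [List.getD_append_right _ _ _ _ (by simp), if_pos rfl]
      simp
    · rw [if_neg (by omega), List.getD_eq_default]
      simp; omega

theorem coef_le : ∀ (L : Form) (i : ℕ), coef L i ≤ mass L
  | [], _ => le_refl _
  | (v, c) :: L, i => by
    have := coef_le L i
    rw [coef, mass]
    split <;> omega

theorem pkC_eq (E : List (List ℕ)) : ∀ C : List (ℕ × ℕ), pkC (E.map pkD) C = pkD (combineD E C)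
  | [] => rfl
  | (t, c) :: C => by
    rw [pkC, pkC_eq E C, show combineD E ((t, c) :: C) = addv ((E.getD t []).map (c * ·)) (combineD E C) from rfl,
      pkD_addv, pkD_scale]
    congr 2
    rw [← List.getD_map (f := pkD)]
    rfl

theorem combineD_le {E : List (List ℕ)} {B : ℕ} (hE : ∀ d ∈ E, ∀ x ∈ d, x ≤ B) :
    ∀ (C : List (ℕ × ℕ)) (i : ℕ), (combineD E C).getD i 0 ≤ mass C * B
  | [], i => by simp [combineD]
  | (t, c) :: C, i => by
    rw [show combineD E ((t, c) :: C) = addv ((E.getD t []).map (c * ·)) (combineD E C) from rfl, getD_addv,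
      mass, add_mul]
    refine add_le_add ?_ (combineD_le hE C i)
    rw [show ((E.getD t []).map (c * ·)).getD i 0 = c * (E.getD t []).getD i 0 by
      rw [← List.getD_map (f := (c * ·))]; simp]
    refine Nat.mul_le_mul_left c ?_
    rcases Nat.lt_or_ge t E.length with ht | ht
    · rw [List.getD_eq_getElem _ _ ht]
      rcases Nat.lt_or_ge i (E[t].length) with hi | hi
      · rw [List.getD_eq_getElem _ _ hi]
        exact hE _ (List.getElem_mem ht) _ (List.getElem_mem hi)
      · rw [List.getD_eq_default _ _ hi]; exact Nat.zero_le _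
    · rw [List.getD_eq_default _ _ ht]; simp

/-- A relation agrees with a packed vector, whose digits are at most `B`. -/
def eqP (N V : ℕ) (L M : Form) (X B : ℕ) : Bool :=
  (L.all fun t => Nat.blt t.1 V) && (M.all fun t => Nat.blt t.1 V) && Nat.blt (mass L) 4294967296 &&
    Nat.blt (mass M + B) 4294967296 &&
    (let P := pkF L
     let Q := pkF M + X
     (List.range V).all fun i => Nat.beq (digit P i % N) (digit Q i % N))

theorem denseEq_of_eqP {N V : ℕ} {L M : Form} {d : List ℕ} {B : ℕ} (hd : ∀ i, d.getD i 0 ≤ B)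
    (h : eqP N V L M (pkD d) B = true) : denseEq N V L M d = true := by
  simp only [eqP, Bool.and_eq_true, Nat.blt_eq] at h
  obtain ⟨⟨⟨⟨hL, hM⟩, hmL⟩, hmM⟩, hall⟩ := h
  simp only [denseEq, Bool.and_eq_true, List.all_eq_true, List.mem_range] at hall ⊢
  refine ⟨⟨List.all_eq_true.1 hL, List.all_eq_true.1 hM⟩, fun i hi => ?_⟩
  have h1 : digit (pkF L) i = coef L i := by
    rw [← pkD_dF, digit_pkD _ _ fun j => by rw [getD_dF]; exact lt_of_le_of_lt (coef_le L j) hmL, getD_dF]
  have h2 : digit (pkF M + pkD d) i = coef M i + d.getD i 0 := by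
    rw [← pkD_dF, ← pkD_addv, digit_pkD _ _ fun j => by
      rw [getD_addv, getD_dF]
      exact lt_of_le_of_lt (Nat.add_le_add (coef_le M j) (hd j)) hmM, getD_addv, getD_dF]
  have := hall i hi
  rwa [h1, h2] at this

variable (C : Cert)

/-- The relations agree with the dense vectors. -/
def allP : List (Form × Form) → List (List ℕ) → Bool
  | e :: es, d :: ds => eqP C.N C.nv e.1 e.2 (pkD d) C.N && allP es ds
  | [], [] => true
  | _, _ => false

/-- The linear checks, packed. -/
def linP : Bool :=
  let P := C.dense.map pkD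
  (C.dense.all fun d => d.all fun x => Nat.ble x C.N) && allP C C.eqs C.dense &&
  ((List.range C.rules.length).all fun r =>
    (((C.tgt.getD r ([], [])).1.all fun t => Nat.blt t.1 C.base.length) &&
    eqP C.N C.nv ((r, 1) :: C.adjW (C.rules.getD r ([], [])).1)
      (C.adjW (C.rules.getD r ([], [])).2 ++ C.baseComb (C.tgt.getD r ([], [])).1)
      (pkC P (C.tgt.getD r ([], [])).2) (mass (C.tgt.getD r ([], [])).2 * C.N))) &&
  C.base.all fun b => Nat.blt 0 b.2.1 &&
    eqP C.N C.nv (scale b.2.1 b.1) [] (pkC P b.2.2) (mass b.2.2 * C.N)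

theorem allP_spec : ∀ (es : List (Form × Form)) (ds : List (List ℕ)), (∀ d ∈ ds, ∀ x ∈ d, x ≤ C.N) →
    allP C es ds = true → C.denseAll es ds = true
  | e :: es, d :: ds, hb, h => by
    simp only [allP, Bool.and_eq_true] at h
    simp only [Cert.denseAll, Bool.and_eq_true]
    refine ⟨denseEq_of_eqP (fun i => ?_) h.1, allP_spec es ds (fun d' hd' => hb d' (List.mem_cons_of_mem _ hd')) h.2⟩
    rcases Nat.lt_or_ge i d.length with hi | hi
    · rw [List.getD_eq_getElem _ _ hi]; exact hb d List.mem_cons_self _ (List.getElem_mem hi)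
    · rw [List.getD_eq_default _ _ hi]; exact Nat.zero_le _
  | [], [], _, _ => rfl
  | [], _ :: _, _, h => by simp [allP] at h
  | _ :: _, [], _, h => by simp [allP] at h

theorem linOK_of_linP (h : linP C = true) : C.linOK = true := by
  simp only [linP, Bool.and_eq_true, List.all_eq_true, List.mem_range, Nat.ble_eq, pkC_eq] at h
  obtain ⟨⟨⟨hb, hall⟩, hr⟩, hbase⟩ := h
  simp only [Cert.linOK, Bool.and_eq_true, List.all_eq_true, List.mem_range]
  refine ⟨⟨allP_spec C _ _ hb hall, fun r hr' => ⟨(hr r hr').1, ?_⟩⟩, fun b hb' => ⟨(hbase b hb').1, ?_⟩⟩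
  · exact denseEq_of_eqP (combineD_le hb _) (hr r hr').2
  · exact denseEq_of_eqP (combineD_le hb _) (hbase b hb').2

end CfsgLib.Spor.SchurCert.Packed
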