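import Cfsg.Agent.Lib.Spor.SchurCert.Stem
import Cfsg.Agent.Lib.Spor.PermCert.Basic

/-!
The certificates for a permutation group with packed elements and a checked chain.
-/

set_option autoImplicit false

namespace CfsgLib.Spor.SchurCert

open CfsgLib.Spor.PermCert MulAction

/-- Replace each index by its word. -/
def spell (sw : List (List ℕ)) (v : List ℕ) : List ℕ := (v.map fun i => sw.getD i []).flatten

/-- Strictly increasing. -/
def increasing : List ℕ → Bool
  | a :: b :: l => Nat.blt a b && increasing (b :: l)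
  | _ => true

theorem increasing_spec : ∀ {l : List ℕ}, increasing l = true → l.Pairwise (· < ·)
  | [], _ => List.Pairwise.nil
  | [_], _ => List.pairwise_singleton _ _
  | a :: b :: l, h => by
    simp only [increasing, Bool.and_eq_true] at h
    have ih := increasing_spec h.2
    refine List.pairwise_cons.2 ⟨fun c hc => ?_, ih⟩
    rcases List.mem_cons.1 hc with rfl | hc
    · exact Nat.le_of_ble_eq_true h.1
    · exact lt_trans (Nat.le_of_ble_eq_true h.1) (List.rel_of_pairwise_cons ih hc)

/-- Two words agree on the base. -/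
def sameC (w : ℕ) (R : Rows) (len : ℕ) (bs : List ℕ) (u v : List ℕ) : Bool :=
  ((u ++ v).all fun x => Nat.blt x len) && bs.all fun b => Nat.beq (comp w R u b) (comp w R v b)

/-- The identities between the Sylow words and the conjugations. -/
def identPerm (w : ℕ) (R : Rows) (len : ℕ) (bs : List ℕ) (C : Cert) (sw gw : List (List ℕ)) : Bool :=
  Nat.beq sw.length C.m && (sw.all fun s => s.all fun x => Nat.blt x len) &&
    (C.rules.all fun r => sameC w R len bs (spell sw r.1) (spell sw r.2)) &&
    (List.range C.maps.length).all fun f => (C.pairs f).all fun P =>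
      sameC w R len bs (gw.getD f [] ++ spell sw P.1) (spell sw P.2 ++ gw.getD f [])

/-- Orbits inside the subgroup. -/
def subPermOK (n w : ℕ) (R : Rows) (sw : List (List ℕ)) : List ℕ → List (ℕ × List (ℕ × List ℕ)) → Bool
  | _, [] => true
  | fixed, (b, T) :: rest =>
    Nat.blt b n && increasing (T.map Prod.fst) &&
      (T.all fun e => (e.2.all fun i => Nat.blt i sw.length) &&
        (fixed.all fun c => Nat.beq (comp w R (spell sw e.2) c) c) &&
        Nat.beq (comp w R (spell sw e.2) b) e.1) &&
      subPermOK n w R sw (b :: fixed) rest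

variable {n : ℕ} [NeZero n] {w : ℕ} {R : Rows} {len : ℕ} {H : Subgroup (Equiv.Perm (Fin n))}

/-- The element of a word. -/
noncomputable def welt (hmem : ∀ k < len, ∃ g ∈ H, Matches w g R k) (us : List ℕ) : ↥H :=
  if h : ∀ u ∈ us, u < len then ⟨(exists_comp hmem us h).choose, (exists_comp hmem us h).choose_spec.1⟩ else 1

theorem welt_spec (hmem : ∀ k < len, ∃ g ∈ H, Matches w g R k) {us : List ℕ} (h : ∀ u ∈ us, u < len) (i : Fin n) :
    ((welt hmem us).1 i).1 = comp w R us i.1 := by
  rw [welt, dif_pos h]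
  exact (exists_comp hmem us h).choose_spec.2 i

theorem comp_append (u v : List ℕ) (b : ℕ) : comp w R (u ++ v) b = comp w R u (comp w R v b) :=
  List.foldr_append

theorem welt_append (hmem : ∀ k < len, ∃ g ∈ H, Matches w g R k) {u v : List ℕ} (hu : ∀ x ∈ u, x < len)
    (hv : ∀ x ∈ v, x < len) : welt hmem (u ++ v) = welt hmem u * welt hmem v := by
  refine Subtype.ext (Equiv.ext fun i => Fin.ext ?_)
  rw [welt_spec hmem (fun x hx => (List.mem_append.1 hx).elim (hu x) (hv x)), Subgroup.coe_mul,
    Equiv.Perm.mul_apply, welt_spec hmem hu, welt_spec hmem hv, comp_append]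

theorem spell_lt {sw : List (List ℕ)} (hlt : ∀ s ∈ sw, ∀ x ∈ s, x < len) (v : List ℕ) :
    ∀ x ∈ spell sw v, x < len := fun x hx => by
  simp only [spell, List.mem_flatten, List.mem_map] at hx
  obtain ⟨_, ⟨i, -, rfl⟩, hx⟩ := hx
  by_cases hi : i < sw.length
  · rw [List.getD_eq_getElem _ _ hi] at hx
    exact hlt _ (List.getElem_mem hi) x hx
  · rw [List.getD_eq_default _ _ (by omega)] at hx
    simp at hx

theorem welt_spell (hmem : ∀ k < len, ∃ g ∈ H, Matches w g R k) {sw : List (List ℕ)}
    (hlt : ∀ s ∈ sw, ∀ x ∈ s, x < len) : ∀ v : List ℕ,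
      welt hmem (spell sw v) = wv (fun i => welt hmem (sw.getD i [])) v
  | [] => by
    refine Subtype.ext (Equiv.ext fun i => Fin.ext ?_)
    rw [welt_spec hmem (spell_lt hlt [])]
    simp [spell, comp, wv_nil]
  | a :: v => by
    have e : spell sw (a :: v) = spell sw [a] ++ spell sw v := by simp [spell]
    have e1 : spell sw [a] = sw.getD a [] := by simp [spell]
    rw [e, welt_append hmem (spell_lt hlt _) (spell_lt hlt _), welt_spell hmem hlt v, e1, wv_cons]

theorem subPerm_count (hmem : ∀ k < len, ∃ g ∈ H, Matches w g R k) {sw : List (List ℕ)}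
    (hlt : ∀ s ∈ sw, ∀ x ∈ s, x < len) (S : Subgroup H) (hS : ∀ v : List ℕ, (∀ i ∈ v, i < sw.length) →
      welt hmem (spell sw v) ∈ S) :
    ∀ (T : List (ℕ × List (ℕ × List ℕ))) (fixed : List ℕ), (∀ c ∈ fixed, c < n) →
      subPermOK n w R sw fixed T = true →
      (T.map fun e => e.2.length).prod ≤ Nat.card ↥(fixSub (S.map H.subtype) fixed)
  | [], fixed, _, _ => by simp [Nat.one_le_iff_ne_zero, Nat.card_pos.ne']
  | (b, T) :: rest, fixed, hf, hok => by
    simp only [subPermOK, Bool.and_eq_true, List.all_eq_true] at hok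
    obtain ⟨⟨⟨hb', hasc⟩, hT⟩, hrest⟩ := hok
    have hb : b < n := Nat.le_of_ble_eq_true hb'
    have ih := subPerm_count hmem hlt S hS rest (b :: fixed) (by simpa [hb] using hf) hrest
    rw [card_fixSub_cons (S.map H.subtype) b fixed, List.map_cons, List.prod_cons]
    refine Nat.mul_le_mul ?_ ih
    have hval : ∀ i : Fin T.length, ((welt hmem (spell sw (T[i.1]).2)).1 (pnt n b)).1 = (T[i.1]).1 := fun i => by
      rw [welt_spec hmem (spell_lt hlt _), pnt_val hb]
      exact Nat.eq_of_beq_eq_true (hT _ (List.getElem_mem i.2)).2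
    let f : Fin T.length → ↥(orbit (fixSub (S.map H.subtype) fixed) (pnt n b)) := fun i =>
      ⟨(welt hmem (spell sw (T[i.1]).2)).1 (pnt n b), ⟨⟨_, mem_fixSub.2
        ⟨⟨_, hS _ fun a ha => Nat.le_of_ble_eq_true ((hT _ (List.getElem_mem i.2)).1.1 a ha), rfl⟩,
          fun c hc => Fin.ext (by
            rw [Subgroup.subtype_apply, welt_spec hmem (spell_lt hlt _), pnt_val (hf c hc)]
            exact Nat.eq_of_beq_eq_true ((hT _ (List.getElem_mem i.2)).1.2 c hc))⟩⟩, rfl⟩⟩
    have hinj : Function.Injective f := fun i j e => by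
      have e' := congrArg (fun v : ↥(orbit (fixSub (S.map H.subtype) fixed) (pnt n b)) => (v.1 : ℕ)) e
      simp only [f, hval] at e'
      have hnd : (T.map Prod.fst).Nodup := (increasing_spec hasc).imp ne_of_lt
      exact Fin.ext ((hnd.getElem_inj_iff (hi := by simpa using i.2) (hj := by simpa using j.2)).1
        (by simpa using e'))
    have := Nat.card_le_card_of_injective f hinj
    rwa [Nat.card_fin] at this

/-- Everything from the checks: the generators of the Sylow subgroup and the hypotheses of the bound. -/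
theorem perm_facts (hmem : ∀ k < len, ∃ g ∈ H, Matches w g R k) {bs : List ℕ} {Ts : List (List ℕ)}
    (hchain : chainOK n w R len [] bs Ts = true) (hcardH : Nat.card ↥H = (Ts.map List.length).prod)
    (hbs : ∀ b ∈ bs, b < n) (C : Cert) [hp : Fact C.p.Prime] (sw gw : List (List ℕ))
    (T : List (ℕ × List (ℕ × List ℕ))) (hfac : (Nat.card ↥H).factorization C.p = C.m)
    (hid : identPerm w R len bs C sw gw = true) (hsub : subPermOK n w R sw [] T = true)
    (hT : C.p ^ C.m ≤ (T.map fun e => e.2.length).prod) (hshape : C.shapeOK = true) :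
    ∃ γ conj : ℕ → ↥H,
      (∀ r, r < C.rules.length → wv γ (C.rules.getD r ([], [])).1 = wv γ (C.rules.getD r ([], [])).2) ∧
      (∀ f, f < C.maps.length → ∀ i, i < (C.pairs f).length →
        conj f * wv γ ((C.pairs f).getD i ([], [])).1 * (conj f)⁻¹ = wv γ ((C.pairs f).getD i ([], [])).2) ∧
      C.p ^ C.m ≤ Nat.card (Subgroup.closure (γ '' {i | i < C.m}) : Subgroup ↥H) ∧
      ¬ C.p ∣ (Subgroup.closure (γ '' {i | i < C.m}) : Subgroup ↥H).index := by
  simp only [identPerm, sameC, Bool.and_eq_true, List.all_eq_true, List.mem_range] at hid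
  obtain ⟨⟨⟨hswl, hswlt⟩, hr⟩, hm⟩ := hid
  have hlen : sw.length = C.m := Nat.eq_of_beq_eq_true hswl
  have hlt : ∀ s ∈ sw, ∀ x ∈ s, x < len := fun s hs x hx => Nat.le_of_ble_eq_true (hswlt s hs x hx)
  have hsame : ∀ {u v : List ℕ}, (∀ x ∈ u ++ v, Nat.blt x len = true) →
      (∀ b ∈ bs, Nat.beq (comp w R u b) (comp w R v b) = true) → welt hmem u = welt hmem v := by
    intro u v h1 h2
    have hu : ∀ x ∈ u, x < len := fun x hx => Nat.le_of_ble_eq_true (h1 x (List.mem_append_left _ hx))
    have hv : ∀ x ∈ v, x < len := fun x hx => Nat.le_of_ble_eq_true (h1 x (List.mem_append_right _ hx))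
    refine Subtype.ext (eq_of_base hmem hchain hcardH (welt hmem u).2 (welt hmem v).2 fun b hb => Fin.ext ?_)
    rw [welt_spec hmem hu, welt_spec hmem hv, pnt_val (hbs b hb)]
    exact Nat.eq_of_beq_eq_true (h2 b hb)
  refine ⟨fun i => welt hmem (sw.getD i []), fun f => welt hmem (gw.getD f []), ?_⟩
  set γ : ℕ → ↥H := fun i => welt hmem (sw.getD i [])
  have hrules : ∀ r, r < C.rules.length → wv γ (C.rules.getD r ([], [])).1 = wv γ (C.rules.getD r ([], [])).2 :=
    fun r hr0 => by
      rw [← welt_spell hmem hlt, ← welt_spell hmem hlt]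
      obtain ⟨a, b⟩ := hr _ (show C.rules.getD r ([], []) ∈ C.rules by
        rw [List.getD_eq_getElem _ _ hr0]; exact List.getElem_mem hr0)
      exact hsame a b
  have hcard : C.p ^ C.m ≤ Nat.card (Subgroup.closure (γ '' {i | i < C.m}) : Subgroup ↥H) := by
    set S := Subgroup.closure (γ '' {i | i < C.m})
    have hS : ∀ v : List ℕ, (∀ i ∈ v, i < sw.length) → welt hmem (spell sw v) ∈ S := fun v hv => by
      rw [welt_spell hmem hlt]
      refine list_prod_mem fun g hg => ?_
      obtain ⟨i, hi, rfl⟩ := List.mem_map.1 hg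
      exact Subgroup.subset_closure ⟨i, hlen ▸ hv i hi, rfl⟩
    have h1 := subPerm_count hmem hlt S hS T [] (by simp) hsub
    have e0 : fixSub (S.map H.subtype) [] = S.map H.subtype := by ext a; simp [mem_fixSub]
    rw [e0, Subgroup.card_subtype] at h1
    exact hT.trans h1
  refine ⟨hrules, fun f hf i hi => ?_, hcard, ?_⟩
  · obtain ⟨h1, h2⟩ := hm f hf _ (List.getElem_mem hi)
    have hgl : ∀ x ∈ gw.getD f [], x < len := fun x hx =>
      Nat.le_of_ble_eq_true (h1 x (List.mem_append_left _ (List.mem_append_left _ hx)))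
    have e := hsame h1 h2
    rw [welt_append hmem hgl (spell_lt hlt _), welt_append hmem (spell_lt hlt _) hgl, welt_spell hmem hlt,
      welt_spell hmem hlt] at e
    rw [List.getD_eq_getElem _ _ hi, mul_inv_eq_iff_eq_mul]
    exact e
  · simp only [Cert.shapeOK, Bool.and_eq_true, List.all_eq_true, List.mem_range, Bool.or_eq_true,
      Bool.not_eq_true', beq_iff_eq] at hshape
    have hup := (segment_bound C hp.out.pos γ ⊥ (fun b hb d => by rw [Subgroup.mem_bot.1 hb, one_mul, mul_one])
      hshape.2 fun r hr0 => ⟨1, one_mem _, by rw [mul_one]; exact hrules r hr0⟩).1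
    rw [bot_sup_eq, Subgroup.card_bot, mul_one] at hup
    intro hd
    have hmul := (Subgroup.closure (γ '' {i | i < C.m})).card_mul_index
    rw [le_antisymm hup hcard] at hmul
    have hd' : C.p ^ (C.m + 1) ∣ Nat.card ↥H := by rw [← hmul, pow_succ]; exact mul_dvd_mul_left _ hd
    have := (Nat.Prime.pow_dvd_iff_le_factorization hp.out Nat.card_pos.ne').1 hd'
    omega

end CfsgLib.Spor.SchurCert
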