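import Cfsg.Agent.Lib.Spor.SchurCert.Core
import Cfsg.Agent.Lib.Lie.Mult.SylowGens
import Cfsg.Agent.Lib.PGroup.StemExtension

/-!
From a certificate to a bound on the `p`-part of the kernel of a stem extension.
-/

set_option autoImplicit false

namespace CfsgLib.Spor.SchurCert

open Subgroup
open scoped commutatorElement

/-- In the abelian kernel: if every `p`-element is, modulo `p^e`-th powers, killed by a smaller power,
its exponent is below `p^e`. -/
theorem pow_eq_one_of_small {Z : Type*} [CommGroup Z] [Finite Z] {p e : ℕ} (hp : p.Prime) (he : 0 < e)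
    (h : ∀ z : Z, (∃ k, orderOf z = p ^ k) → ∃ w : Z, z ^ p ^ (e - 1) = w ^ p ^ e)
    (z : Z) (hz : ∃ k, orderOf z = p ^ k) : z ^ p ^ e = 1 := by
  classical
  have : Fintype Z := Fintype.ofFinite Z
  obtain ⟨m, hm, hmax⟩ := Finset.exists_max_image
    (Finset.univ.filter fun u : Z => ∃ k, orderOf u = p ^ k) orderOf ⟨z, by simp [hz]⟩
  simp only [Finset.mem_filter, Finset.mem_univ, true_and] at hm hmax
  obtain ⟨k, hk⟩ := hm
  by_cases hke : k < e
  · obtain ⟨j, hj⟩ := hz
    have hle := hmax z ⟨j, hj⟩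
    rw [hj, hk] at hle
    rw [← orderOf_dvd_iff_pow_eq_one, hj]
    exact Nat.pow_dvd_pow p ((Nat.pow_le_pow_iff_right hp.one_lt).1 hle |>.trans hke.le)
  · exfalso
    obtain ⟨w, hw⟩ := h m ⟨k, hk⟩
    have ho : orderOf (m ^ p ^ (e - 1)) = p ^ (k - (e - 1)) := by
      rw [orderOf_pow, hk, Nat.gcd_eq_right (Nat.pow_dvd_pow p (by omega)),
        Nat.pow_div (by omega) hp.pos]
    have hwo : w ^ p ^ (k + 1) = 1 := by
      rw [show k + 1 = e + (k - (e - 1)) by omega, pow_add, pow_mul, ← hw, ← ho, pow_orderOf_eq_one]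
    obtain ⟨i, hi, hwi⟩ := (Nat.dvd_prime_pow hp).1 (orderOf_dvd_of_pow_eq_one hwo)
    have hne : ¬ i ≤ k := fun hik => by
      have : m ^ p ^ (e - 1) = (w ^ p ^ e) := hw
      have h1 : (m ^ p ^ (e - 1)) ^ p ^ (k - e) = 1 := by
        rw [this, ← pow_mul, ← pow_add, ← orderOf_dvd_iff_pow_eq_one, hwi]
        exact Nat.pow_dvd_pow p (by omega)
      have h2 := orderOf_dvd_of_pow_eq_one h1
      rw [ho, Nat.pow_dvd_pow_iff_le_right hp.one_lt] at h2
      omega
    have := hmax w ⟨i, hwi⟩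
    rw [hwi, hk, Nat.pow_le_pow_iff_right hp.one_lt] at this
    omega

variable (C : Cert) {Γ : Type*} [Group Γ] [Finite Γ] {G : Type*} [Group G] {σ : Γ →* G}

/-- The bound on the `p`-subgroups of the kernel of a stem extension. -/
theorem pGroup_card_le (hσ : Cfsg.IsStemExtension σ) [hp : Fact C.p.Prime] {e : ℕ} (hN : C.N = C.p ^ e)
    (hb : C.bound < C.N) (γ : ℕ → G) (conj : ℕ → G)
    (hrules : ∀ r, r < C.rules.length → wv γ (C.rules.getD r ([], [])).1 = wv γ (C.rules.getD r ([], [])).2)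
    (hmaps : ∀ f, f < C.maps.length → ∀ i, i < (C.pairs f).length →
      conj f * wv γ ((C.pairs f).getD i ([], [])).1 * (conj f)⁻¹ = wv γ ((C.pairs f).getD i ([], [])).2)
    (hshape : C.shapeOK = true) (hlin : C.linOK = true)
    (hcard : C.p ^ C.m ≤ Nat.card (closure (γ '' {i | i < C.m}) : Subgroup G))
    (hindex : ¬ C.p ∣ (closure (γ '' {i | i < C.m}) : Subgroup G).index)
    (P : Subgroup Γ) (hP : P ≤ σ.ker) (hPp : IsPGroup C.p P) : Nat.card P ≤ C.bound := by
  have hcen := hσ.2.1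
  letI : CommGroup σ.ker :=
    { (inferInstance : Group σ.ker) with
      mul_comm := fun a b => Subtype.ext (mem_center_iff.1 (hcen b.2) a) }
  let K : Subgroup Γ := (powMonoidHom C.N : σ.ker →* σ.ker).range.map σ.ker.subtype
  have hK : K ≤ σ.ker := map_subtype_le _
  have hKn : K.Normal := ⟨fun k hk g => by rwa [mem_center_iff.1 (hcen (hK hk)) g, mul_inv_cancel_right]⟩
  let π := QuotientGroup.mk' K
  let τ : Γ ⧸ K →* G := QuotientGroup.lift K σ hK
  have hπ : Function.Surjective π := QuotientGroup.mk'_surjective K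
  have hτs : Function.Surjective τ := fun g => by
    obtain ⟨x, rfl⟩ := hσ.1 g
    exact ⟨π x, rfl⟩
  have hτk : ∀ d ∈ τ.ker, ∃ x ∈ σ.ker, π x = d := fun d hd => by
    obtain ⟨x, rfl⟩ := hπ d
    exact ⟨x, hd, rfl⟩
  have hτc : τ.ker ≤ center (Γ ⧸ K) := fun d hd => mem_center_iff.2 fun g => by
    obtain ⟨x, hx, rfl⟩ := hτk d hd
    obtain ⟨y, rfl⟩ := hπ g
    rw [← map_mul, ← map_mul, mem_center_iff.1 (hcen hx) y]
  have hτN : ∀ d ∈ τ.ker, d ^ C.N = 1 := fun d hd => by
    obtain ⟨x, hx, rfl⟩ := hτk d hd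
    rw [← map_pow]
    exact (QuotientGroup.eq_one_iff _).2 ⟨⟨x, hx⟩ ^ C.N, ⟨⟨x, hx⟩, rfl⟩, rfl⟩
  obtain ⟨B, hB, hle⟩ := kernel_bound C τ hτs hτc hτN γ conj hrules hmaps hshape hlin hcard
  set S := closure (γ '' {i | i < C.m})
  -- every p-element of the kernel maps into the bound
  have hmem : ∀ z : Γ, z ∈ σ.ker → (∃ k, orderOf z = C.p ^ k) → π z ∈ B := by
    rintro z hz ⟨k, hk⟩
    refine hle ⟨?_, (show σ z = 1 from hz)⟩
    have hcop : Nat.Coprime (orderOf z) S.index := by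
      rw [hk]
      exact ((Nat.Prime.coprime_iff_not_dvd hp.out).2 hindex).pow_left k
    have hzH : z ∈ S.comap σ := by
      show σ z ∈ S
      rw [(show σ z = 1 from hz)]
      exact one_mem S
    have hzc := Lie.MultSylow.mem_commutator_comap hσ hz hcop hzH
    have hmap : (⁅S.comap σ, S.comap σ⁆ : Subgroup Γ).map π ≤ ⁅S.comap τ, S.comap τ⁆ := by
      rw [map_commutator]
      exact commutator_mono (map_le_iff_le_comap.2 fun x hx => hx) (map_le_iff_le_comap.2 fun x hx => hx)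
    refine hmap ⟨z, ?_, rfl⟩
    rw [← map_subtype_commutator]
    exact ⟨_, hzc, rfl⟩
  have he : 0 < e := by
    by_contra h0
    rw [show e = 0 by omega, pow_zero] at hN
    have : 0 < C.bound := lt_of_lt_of_le Nat.card_pos hB
    omega
  have hsmall : ∀ z : σ.ker, (∃ k, orderOf z = C.p ^ k) → z ^ C.p ^ e = 1 := by
    refine fun z hz => pow_eq_one_of_small hp.out he (fun u hu => ?_) z hz
    obtain ⟨k, hk⟩ := hu
    have hu' := hmem u u.2 ⟨k, by rw [Subgroup.orderOf_coe, hk]⟩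
    obtain ⟨j, hj, ho⟩ := (Nat.dvd_prime_pow hp.out).1 (show orderOf (π u) ∣ C.p ^ k by
      rw [← hk, ← Subgroup.orderOf_coe]; exact orderOf_map_dvd π _)
    have hjlt : C.p ^ j < C.p ^ e := by
      rw [← ho, ← hN]
      exact lt_of_le_of_lt ((Nat.le_of_dvd Nat.card_pos (B.orderOf_dvd_natCard hu')).trans hB) hb
    have hje : j ≤ e - 1 := by
      have := (Nat.pow_lt_pow_iff_right hp.out.one_lt).1 hjlt
      omega
    have h1 : π ((u : Γ) ^ C.p ^ (e - 1)) = 1 := by
      rw [map_pow, ← orderOf_dvd_iff_pow_eq_one, ho]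
      exact Nat.pow_dvd_pow _ hje
    obtain ⟨_, ⟨w, rfl⟩, hw⟩ := (QuotientGroup.eq_one_iff _).1 h1
    exact ⟨w, Subtype.ext (by simpa [hN] using hw.symm)⟩
  -- the p-subgroup embeds
  have hinj : Function.Injective (π.comp P.subtype) := by
    rw [injective_iff_map_eq_one]
    intro a ha
    obtain ⟨_, ⟨w, rfl⟩, hw⟩ := (QuotientGroup.eq_one_iff _).1 ha
    obtain ⟨k, hk⟩ := IsPGroup.iff_orderOf.1 hPp a
    have hn : 0 < orderOf w := orderOf_pos w
    obtain ⟨j, r, hr, hwr⟩ := Nat.exists_eq_pow_mul_and_not_dvd hn.ne' C.p hp.out.ne_one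
    have hwp : ∃ i, orderOf (w ^ r) = C.p ^ i := ⟨j, by
      rw [orderOf_pow, hwr, Nat.gcd_eq_right (dvd_mul_left r _), Nat.mul_div_cancel]
      by_contra h0
      simp [Nat.eq_zero_of_not_pos h0] at hr⟩
    have h1 := hsmall (w ^ r) hwp
    have hc : Nat.Coprime (orderOf a) r := by
      rw [hk]; exact ((Nat.Prime.coprime_iff_not_dvd hp.out).2 hr).pow_left k
    have har : a ^ r = 1 := Subtype.ext (by
      have e1 : ((powMonoidHom C.N w : σ.ker) : Γ) = (a : Γ) := hw
      have e2 := congrArg (Subtype.val : σ.ker → Γ) h1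
      simp only [powMonoidHom_apply, Subgroup.coe_pow, Subgroup.coe_one] at e1 e2 ⊢
      rw [← e1, ← pow_mul, mul_comm, pow_mul, hN]
      exact e2)
    have : orderOf a = 1 := Nat.eq_one_of_dvd_coprimes hc dvd_rfl (orderOf_dvd_of_pow_eq_one har)
    exact orderOf_eq_one_iff.1 this
  have hrange : (π.comp P.subtype).range ≤ B := by
    rintro _ ⟨a, rfl⟩
    exact hmem a (hP a.2) (by simpa [Subgroup.orderOf_coe] using IsPGroup.iff_orderOf.1 hPp a)
  rw [Nat.card_congr (MonoidHom.ofInjective hinj).toEquiv]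
  exact (Nat.le_of_dvd Nat.card_pos (Subgroup.card_dvd_of_le hrange)).trans hB

/-- With nothing remaining, the prime does not divide the kernel. -/
theorem not_dvd_ker (hσ : Cfsg.IsStemExtension σ) [hp : Fact C.p.Prime] (hN : C.N = C.p)
    (hb : C.base.isEmpty = true) (γ : ℕ → G) (conj : ℕ → G)
    (hrules : ∀ r, r < C.rules.length → wv γ (C.rules.getD r ([], [])).1 = wv γ (C.rules.getD r ([], [])).2)
    (hmaps : ∀ f, f < C.maps.length → ∀ i, i < (C.pairs f).length →
      conj f * wv γ ((C.pairs f).getD i ([], [])).1 * (conj f)⁻¹ = wv γ ((C.pairs f).getD i ([], [])).2)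
    (hshape : C.shapeOK = true) (hlin : C.linOK = true)
    (hcard : C.p ^ C.m ≤ Nat.card (closure (γ '' {i | i < C.m}) : Subgroup G))
    (hindex : ¬ C.p ∣ (closure (γ '' {i | i < C.m}) : Subgroup G).index) : ¬ C.p ∣ Nat.card σ.ker := by
  intro hd
  obtain ⟨z, hz⟩ := exists_prime_orderOf_dvd_card' C.p hd
  have hbound : C.bound = 1 := by simp [Cert.bound, List.isEmpty_iff.1 hb]
  have hle := pGroup_card_le C hσ (e := 1) (by rw [pow_one, hN]) (by rw [hbound, hN]; exact hp.out.one_lt)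
    γ conj hrules hmaps hshape hlin hcard hindex (zpowers (z : Γ)) (by rw [zpowers_le]; exact z.2)
    (IsPGroup.of_card (n := 1) (by rw [Nat.card_zpowers, Subgroup.orderOf_coe, hz, pow_one]))
  rw [Nat.card_zpowers, Subgroup.orderOf_coe, hz, hbound] at hle
  exact absurd hle (not_le.2 hp.out.one_lt)

/-- If one prime contributes at most itself and no other prime contributes, the kernel's order divides it. -/
theorem card_ker_dvd_prime {Γ : Type*} [Group Γ] [Finite Γ] {G : Type*} [Group G] {σ : Γ →* G} {p : ℕ}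
    [hp : Fact p.Prime] (hother : ∀ ℓ : ℕ, ℓ.Prime → ℓ ≠ p → ¬ ℓ ∣ Nat.card σ.ker)
    (hle : ∀ P : Subgroup Γ, P ≤ σ.ker → IsPGroup p P → Nat.card P ≤ p) : Nat.card σ.ker ∣ p := by
  set c := Nat.card σ.ker with hc
  have hpos : 0 < c := Nat.card_pos
  have hpk : c = p ^ c.factorization p := by
    refine Nat.eq_of_factorization_eq hpos.ne' (pow_ne_zero _ hp.out.ne_zero) fun q => ?_
    rw [Nat.Prime.factorization_pow hp.out, Finsupp.single_apply]
    by_cases hq : p = q
    · simp [hq]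
    · rw [if_neg hq]
      by_cases hqp : q.Prime
      · exact Nat.factorization_eq_zero_of_not_dvd (hother q hqp (Ne.symm hq))
      · exact Nat.factorization_eq_zero_of_not_prime _ hqp
  have hP : IsPGroup p σ.ker := IsPGroup.of_card (by rw [← hc]; exact hpk)
  have h := hle σ.ker le_rfl hP
  rw [← hc, hpk] at h
  have hk : c.factorization p ≤ 1 := (Nat.pow_le_pow_iff_right hp.out.one_lt).1 (by rw [pow_one]; exact h)
  rw [hpk]
  simpa using Nat.pow_dvd_pow p hk

universe u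

/-- A multiplier of prime order from a cover and a bound. -/
theorem hasCyclic_prime {G : Type u} [Group G] {p : ℕ} [hp : Fact p.Prime]
    (cover : ∃ (Γ : Type u) (_ : Group Γ) (_ : Finite Γ) (σ : Γ →* G), Cfsg.IsStemExtension σ ∧ Nat.card σ.ker = p)
    (bound : ∀ (Γ : Type u) [Group Γ] [Finite Γ] (σ : Γ →* G), Cfsg.IsStemExtension σ → Nat.card σ.ker ∣ p) :
    Cfsg.HasCyclicSchurMultiplier G p := by
  obtain ⟨Γ, i1, i2, σ, hσ, hc⟩ := cover
  have hz : Nat.card (Multiplicative (ZMod p)) = p :=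
    (Nat.card_congr Multiplicative.toAdd).trans (Nat.card_zmod p)
  refine ⟨⟨Γ, i1, i2, σ, hσ, ⟨mulEquivOfPrimeCardEq (p := p) hc hz⟩⟩, fun Δ _ _ τ hτ => ?_⟩
  rcases (Nat.dvd_prime hp.out).1 (bound Δ τ hτ) with h1 | h1
  · haveI : Subsingleton τ.ker := (Nat.card_eq_one_iff_unique.1 h1).1
    exact ⟨1, fun k => ⟨1, Subsingleton.elim _ _⟩⟩
  · exact ⟨(mulEquivOfPrimeCardEq (p := p) hz h1).toMonoidHom, MulEquiv.surjective _⟩

end CfsgLib.Spor.SchurCert
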