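import Cfsg.Agent.Lib.Spor.Leech.Census.Mat

/-!
Tables of automorphisms built as products of earlier entries, with their packed columns.
-/

set_option autoImplicit false

namespace CfsgLib.Spor.SchurCert.MatBridge

open Cfsg CfsgLib.Spor.Leech CfsgLib.Spor.Leech.Census32

/-- Extend a list of automorphisms by products along words. -/
noncomputable def extendE : List (List ℕ) → List Co0 → List Co0
  | [], acc => acc
  | w :: ws, acc => extendE ws (acc ++ [wordElt acc w])

/-- Extend a list of packed columns by products along words. -/
noncomputable def extendM : List (List ℕ) → List Mat → List Mat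
  | [], acc => acc
  | w :: ws, acc => extendM ws (acc ++ [wordMat acc w])

theorem isMat_extend : ∀ (ws : List (List ℕ)) (gs : List Co0) (Ms : List Mat), gs.length = Ms.length →
    (∀ k, IsMat (gs.getD k 1) (Ms.getD k oneMat)) →
    ∀ k, IsMat ((extendE ws gs).getD k 1) ((extendM ws Ms).getD k oneMat)
  | [], _, _, _, h => h
  | w :: ws, gs, Ms, hl, h => by
    refine isMat_extend ws _ _ (by simp [hl]) fun k => ?_
    rcases Nat.lt_trichotomy k gs.length with hk | hk | hk
    · rw [List.getD_append _ _ _ _ hk, List.getD_append _ _ _ _ (hl ▸ hk)]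
      exact h k
    · subst hk
      rw [List.getD_append_right _ _ _ _ le_rfl, List.getD_append_right _ _ _ _ hl.ge, Nat.sub_self, hl,
        Nat.sub_self]
      exact isMat_word h w
    · rw [List.getD_eq_default _ _ (by simp; omega), List.getD_eq_default _ _ (by simp; omega)]
      exact isMat_one

theorem fix_of_step {g : Co0} {C : Mat} (hg : IsMat g C) {u : leechLattice}
    (hu : sqNorm (u : GolayPt → ℤ) ≤ 64) (h : Nat.beq (step C (enc (u : GolayPt → ℤ))) (enc (u : GolayPt → ℤ)) = true) :
    g • u = u := by
  have e := Nat.eq_of_beq_eq_true h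
  rw [step_enc hg hu] at e
  exact Subtype.ext (enc_inj (small_of_norm (by rw [co0_norm]; exact hu)) (small_of_norm hu) e)

end CfsgLib.Spor.SchurCert.MatBridge
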