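import Cfsg.Agent.Lib.Spor.SchurCert.PermBridge
import Cfsg.Agent.Lib.Spor.Leech.Census.Mat

/-!
The certificates for a subgroup of the lattice's group with elements given by packed columns: equalities are read
off on the twenty-four multiples of the unit vectors, orders from orbits of short vectors.
-/

set_option autoImplicit false

namespace CfsgLib.Spor.SchurCert.MatBridge

open Cfsg MulAction CfsgLib.Spor.Leech CfsgLib.Spor.Leech.Census32

/-- Two words give the same element. -/
noncomputable def sameM (Ms : List Mat) (lo : ℕ) (u v : List ℕ) : Bool :=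
  ((u ++ v).all fun k => Nat.ble lo k) && oneMat.1.all fun X => Nat.beq (walk Ms X u) (walk Ms X v)

/-- The identities between the Sylow words and the conjugations. -/
noncomputable def identMat (Ms : List Mat) (lo : ℕ) (C : Cert) (sw gw : List (List ℕ)) : Bool :=
  Nat.beq sw.length C.m && (sw.all fun s => s.all fun k => Nat.ble lo k) &&
    (C.rules.all fun r => sameM Ms lo (spell sw r.1) (spell sw r.2)) &&
    (List.range C.maps.length).all fun f => (C.pairs f).all fun P =>
      sameM Ms lo (gw.getD f [] ++ spell sw P.1) (spell sw P.2 ++ gw.getD f [])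

/-- Orbits inside the subgroup, each level started by a word from the given vector. -/
noncomputable def subMatOK (Ms : List Mat) (X0 : ℕ) (sw : List (List ℕ)) :
    List ℕ → List (List ℕ × List (ℕ × List ℕ)) → Bool
  | _, [] => true
  | fixed, (bw, T) :: rest =>
    increasing (T.map Prod.fst) &&
      (T.all fun e => (e.2.all fun i => Nat.blt i sw.length) &&
        (fixed.all fun c => Nat.beq (walk Ms c (spell sw e.2)) c) &&
        Nat.beq (walk Ms (walk Ms X0 bw) (spell sw e.2)) e.1) &&
      subMatOK Ms X0 sw (walk Ms X0 bw :: fixed) rest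

variable {gs : List Co0} {Ms : List Mat} {H : Subgroup Co0} {lo : ℕ}

theorem word_mem (hH : ∀ k, lo ≤ k → gs.getD k 1 ∈ H) {w : List ℕ} (h : ∀ k ∈ w, lo ≤ k) : wordElt gs w ∈ H :=
  list_prod_mem fun g hg => by
    obtain ⟨k, hk, rfl⟩ := List.mem_map.1 hg
    exact hH k (h k hk)

/-- The element of a word. -/
noncomputable def melt (hH : ∀ k, lo ≤ k → gs.getD k 1 ∈ H) (w : List ℕ) : ↥H :=
  if h : ∀ k ∈ w, lo ≤ k then ⟨wordElt gs w, word_mem hH h⟩ else 1

theorem melt_val (hH : ∀ k, lo ≤ k → gs.getD k 1 ∈ H) {w : List ℕ} (h : ∀ k ∈ w, lo ≤ k) :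
    (melt hH w).1 = wordElt gs w := by rw [melt, dif_pos h]

theorem wordElt_append (u v : List ℕ) : wordElt gs (u ++ v) = wordElt gs u * wordElt gs v := by
  simp [wordElt]

theorem melt_append (hH : ∀ k, lo ≤ k → gs.getD k 1 ∈ H) {u v : List ℕ} (hu : ∀ k ∈ u, lo ≤ k)
    (hv : ∀ k ∈ v, lo ≤ k) : melt hH (u ++ v) = melt hH u * melt hH v := by
  refine Subtype.ext ?_
  rw [Subgroup.coe_mul, melt_val hH hu, melt_val hH hv,
    melt_val hH fun k hk => (List.mem_append.1 hk).elim (hu k) (hv k), wordElt_append]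

theorem spell_le {sw : List (List ℕ)} (hlt : ∀ s ∈ sw, ∀ k ∈ s, lo ≤ k) (v : List ℕ) :
    ∀ k ∈ spell sw v, lo ≤ k := fun k hk => by
  simp only [spell, List.mem_flatten, List.mem_map] at hk
  obtain ⟨_, ⟨i, -, rfl⟩, hk⟩ := hk
  by_cases hi : i < sw.length
  · rw [List.getD_eq_getElem _ _ hi] at hk
    exact hlt _ (List.getElem_mem hi) k hk
  · rw [List.getD_eq_default _ _ (by omega)] at hk
    simp at hk

theorem melt_spell (hH : ∀ k, lo ≤ k → gs.getD k 1 ∈ H) {sw : List (List ℕ)}
    (hlt : ∀ s ∈ sw, ∀ k ∈ s, lo ≤ k) : ∀ v : List ℕ,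
      melt hH (spell sw v) = wv (fun i => melt hH (sw.getD i [])) v
  | [] => by
    refine Subtype.ext ?_
    rw [melt_val hH (spell_le hlt [])]
    simp [spell, wordElt, wv_nil]
  | a :: v => by
    have e : spell sw (a :: v) = spell sw [a] ++ spell sw v := by simp [spell]
    have e1 : spell sw [a] = sw.getD a [] := by simp [spell]
    rw [e, melt_append hH (spell_le hlt _) (spell_le hlt _), melt_spell hH hlt v, e1, wv_cons]

theorem eq_of_same (hg : ∀ k, IsMat (gs.getD k 1) (Ms.getD k oneMat)) {u v : List ℕ}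
    (h : (oneMat.1.all fun X => Nat.beq (walk Ms X u) (walk Ms X v)) = true) : wordElt gs u = wordElt gs v := by
  simp only [List.all_eq_true] at h
  refine co0_ext fun q => ?_
  have hn : sqNorm (eight q : GolayPt → ℤ) ≤ 64 := (sqNorm_eight q).le
  have hX : enc (eight q : GolayPt → ℤ) ∈ oneMat.1 :=
    List.mem_map.2 ⟨ptIdx q, List.mem_range.2 (ptIdx_lt q), by rw [idxPt_ptIdx]; rfl⟩
  have e := Nat.eq_of_beq_eq_true (h _ hX)
  rw [walk_enc hg hn, walk_enc hg hn] at e
  exact Subtype.ext (enc_inj (small_of_norm (by rw [co0_norm, sqNorm_eight]))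
    (small_of_norm (by rw [co0_norm, sqNorm_eight])) e)

/-- The elements of a subgroup fixing the listed vectors. -/
def fixL (S : Subgroup Co0) : List leechLattice → Subgroup Co0
  | [] => S
  | y :: ys => fixL S ys ⊓ stabilizer Co0 y

theorem mem_fixL {S : Subgroup Co0} {g : Co0} : ∀ {ys : List leechLattice},
    g ∈ fixL S ys ↔ g ∈ S ∧ ∀ y ∈ ys, g • y = y
  | [] => by simp [fixL]
  | y :: ys => by
    simp only [fixL, Subgroup.mem_inf, mem_stabilizer_iff, mem_fixL (ys := ys), List.mem_cons, forall_eq_or_imp]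
    tauto

theorem orbit_mul_stab (S : Subgroup Co0) [Finite S] (y : leechLattice) :
    (orbit S y).ncard * Nat.card (S ⊓ stabilizer Co0 y : Subgroup Co0) = Nat.card S := by
  rw [← MulAction.index_stabilizer, mul_comm]
  have e : Nat.card (S ⊓ stabilizer Co0 y : Subgroup Co0) = Nat.card (stabilizer S y) := by
    refine Nat.card_congr ⟨fun g => ⟨⟨g.1, g.2.1⟩, g.2.2⟩, fun g => ⟨g.1.1, g.1.2, g.2⟩, fun g => rfl, fun g => rfl⟩
  rw [e, Subgroup.card_mul_index]

theorem subMat_count [Finite Co0] (hg : ∀ k, IsMat (gs.getD k 1) (Ms.getD k oneMat)) {x0 : leechLattice}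
    (hx0 : sqNorm (x0 : GolayPt → ℤ) ≤ 64) {sw : List (List ℕ)} (S : Subgroup Co0)
    (hS : ∀ v : List ℕ, (∀ i ∈ v, i < sw.length) → wordElt gs (spell sw v) ∈ S) :
    ∀ (T : List (List ℕ × List (ℕ × List ℕ))) (fixed : List ℕ) (ys : List leechLattice),
      ys.map (fun y : leechLattice => enc (y : GolayPt → ℤ)) = fixed →
      (∀ y ∈ ys, sqNorm (y : GolayPt → ℤ) ≤ 64) →
      subMatOK Ms (enc (x0 : GolayPt → ℤ)) sw fixed T = true →
      (T.map fun e => e.2.length).prod ≤ Nat.card (fixL S ys)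
  | [], _, ys, _, _, _ => by simp [Nat.one_le_iff_ne_zero, Nat.card_pos.ne']
  | (bw, T) :: rest, fixed, ys, hys, hn, hok => by
    simp only [subMatOK, Bool.and_eq_true, List.all_eq_true] at hok
    obtain ⟨⟨hasc, hT⟩, hrest⟩ := hok
    set y := wordElt gs bw • x0
    have hy : sqNorm (y : GolayPt → ℤ) ≤ 64 := by rw [co0_norm]; exact hx0
    have hb : walk Ms (enc (x0 : GolayPt → ℤ)) bw = enc (y : GolayPt → ℤ) := walk_enc hg hx0 bw
    have ih := subMat_count hg hx0 S hS rest (enc (y : GolayPt → ℤ) :: fixed) (y :: ys) (by simp [hys])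
      (by simpa [hy] using hn) (by rw [← hb]; exact hrest)
    rw [List.map_cons, List.prod_cons, ← orbit_mul_stab (fixL S ys) y]
    refine Nat.mul_le_mul ?_ ih
    have hval : ∀ i : Fin T.length,
        enc ((wordElt gs (spell sw (T[i.1]).2) • y : leechLattice) : GolayPt → ℤ) = (T[i.1]).1 := fun i => by
      rw [← walk_enc hg hy, ← hb]
      exact Nat.eq_of_beq_eq_true (hT _ (List.getElem_mem i.2)).2
    let f : Fin T.length → ↥(orbit (fixL S ys) y) := fun i =>
      ⟨wordElt gs (spell sw (T[i.1]).2) • y, ⟨⟨_, mem_fixL.2 ⟨hS _ fun a ha =>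
        Nat.le_of_ble_eq_true ((hT _ (List.getElem_mem i.2)).1.1 a ha), fun c hc => by
          have hc' : sqNorm (c : GolayPt → ℤ) ≤ 64 := hn c hc
          have h1 := Nat.eq_of_beq_eq_true ((hT _ (List.getElem_mem i.2)).1.2 (enc (c : GolayPt → ℤ))
            (hys ▸ List.mem_map_of_mem hc))
          rw [walk_enc hg hc'] at h1
          exact Subtype.ext (enc_inj (small_of_norm (by rw [co0_norm]; exact hc')) (small_of_norm hc') h1)⟩⟩, rfl⟩⟩
    have hinj : Function.Injective f := fun i j e => by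
      have e' := congrArg (fun v : ↥(orbit (fixL S ys) y) => enc ((v.1 : leechLattice) : GolayPt → ℤ)) e
      simp only [f, hval] at e'
      have hnd : (T.map Prod.fst).Nodup := (increasing_spec hasc).imp ne_of_lt
      exact Fin.ext ((hnd.getElem_inj_iff (hi := by simpa using i.2) (hj := by simpa using j.2)).1
        (by simpa using e'))
    have hfin : (orbit (fixL S ys) y).Finite := Set.finite_range _
    haveI := hfin.to_subtype
    have := Nat.card_le_card_of_injective f hinj
    rwa [Nat.card_fin, Nat.card_coe_set_eq] at this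

/-- Everything from the checks: the generators of the Sylow subgroup and the hypotheses of the bound. -/
theorem mat_facts [Finite Co0] (hg : ∀ k, IsMat (gs.getD k 1) (Ms.getD k oneMat))
    (hH : ∀ k, lo ≤ k → gs.getD k 1 ∈ H) {x0 : leechLattice} (hx0 : sqNorm (x0 : GolayPt → ℤ) ≤ 64) {X0 : ℕ}
    (hX0 : enc (x0 : GolayPt → ℤ) = X0) (C : Cert) [hp : Fact C.p.Prime] (sw gw : List (List ℕ))
    (T : List (List ℕ × List (ℕ × List ℕ))) (hfac : (Nat.card ↥H).factorization C.p = C.m)
    (hgw : (gw.all fun s => s.all fun k => Nat.ble lo k) = true)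
    (hid : identMat Ms lo C sw gw = true) (hsub : subMatOK Ms X0 sw [] T = true)
    (hT : C.p ^ C.m ≤ (T.map fun e => e.2.length).prod) (hshape : C.shapeOK = true) :
    ∃ γ conj : ℕ → ↥H,
      (∀ r, r < C.rules.length → wv γ (C.rules.getD r ([], [])).1 = wv γ (C.rules.getD r ([], [])).2) ∧
      (∀ f, f < C.maps.length → ∀ i, i < (C.pairs f).length →
        conj f * wv γ ((C.pairs f).getD i ([], [])).1 * (conj f)⁻¹ = wv γ ((C.pairs f).getD i ([], [])).2) ∧
      C.p ^ C.m ≤ Nat.card (Subgroup.closure (γ '' {i | i < C.m}) : Subgroup ↥H) ∧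
      ¬ C.p ∣ (Subgroup.closure (γ '' {i | i < C.m}) : Subgroup ↥H).index := by
  subst hX0
  simp only [identMat, sameM, Bool.and_eq_true, List.all_eq_true, List.mem_range] at hid hgw
  obtain ⟨⟨⟨hswl, hswlt⟩, hr⟩, hm⟩ := hid
  have hlen : sw.length = C.m := Nat.eq_of_beq_eq_true hswl
  have hlt : ∀ s ∈ sw, ∀ k ∈ s, lo ≤ k := fun s hs k hk => Nat.le_of_ble_eq_true (hswlt s hs k hk)
  have hsame : ∀ {u v : List ℕ}, (∀ k ∈ u ++ v, Nat.ble lo k = true) →
      (∀ X ∈ oneMat.1, Nat.beq (walk Ms X u) (walk Ms X v) = true) → melt hH u = melt hH v := by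
    intro u v h1 h2
    refine Subtype.ext ?_
    rw [melt_val hH fun k hk => Nat.le_of_ble_eq_true (h1 k (List.mem_append_left _ hk)),
      melt_val hH fun k hk => Nat.le_of_ble_eq_true (h1 k (List.mem_append_right _ hk))]
    exact eq_of_same hg (List.all_eq_true.2 h2)
  refine ⟨fun i => melt hH (sw.getD i []), fun f => melt hH (gw.getD f []), ?_⟩
  set γ : ℕ → ↥H := fun i => melt hH (sw.getD i [])
  have hrules : ∀ r, r < C.rules.length → wv γ (C.rules.getD r ([], [])).1 = wv γ (C.rules.getD r ([], [])).2 :=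
    fun r hr0 => by
      rw [← melt_spell hH hlt, ← melt_spell hH hlt]
      obtain ⟨a, b⟩ := hr _ (show C.rules.getD r ([], []) ∈ C.rules by
        rw [List.getD_eq_getElem _ _ hr0]; exact List.getElem_mem hr0)
      exact hsame a b
  have hcard : C.p ^ C.m ≤ Nat.card (Subgroup.closure (γ '' {i | i < C.m}) : Subgroup ↥H) := by
    set S := Subgroup.closure (γ '' {i | i < C.m})
    have hS : ∀ v : List ℕ, (∀ i ∈ v, i < sw.length) → wordElt gs (spell sw v) ∈ S.map H.subtype := fun v hv => by
      refine ⟨melt hH (spell sw v), ?_, melt_val hH (spell_le hlt v)⟩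
      show melt hH (spell sw v) ∈ S
      rw [melt_spell hH hlt]
      refine list_prod_mem fun g hg' => ?_
      obtain ⟨i, hi, rfl⟩ := List.mem_map.1 hg'
      exact Subgroup.subset_closure ⟨i, hlen ▸ hv i hi, rfl⟩
    have h1 := subMat_count hg hx0 (S.map H.subtype) hS T [] [] rfl (by simp) hsub
    rw [show fixL (S.map H.subtype) [] = S.map H.subtype from rfl, Subgroup.card_subtype] at h1
    exact hT.trans h1
  refine ⟨hrules, fun f hf i hi => ?_, hcard, ?_⟩
  · obtain ⟨h1, h2⟩ := hm f hf _ (List.getElem_mem hi)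
    have hgl : ∀ k ∈ gw.getD f [], lo ≤ k := fun k hk =>
      Nat.le_of_ble_eq_true (h1 k (List.mem_append_left _ (List.mem_append_left _ hk)))
    have e := hsame h1 h2
    rw [melt_append hH hgl (spell_le hlt _), melt_append hH (spell_le hlt _) hgl, melt_spell hH hlt,
      melt_spell hH hlt] at e
    rw [List.getD_eq_getElem _ _ hi, mul_inv_eq_iff_eq_mul]
    exact e
  · simp only [Cert.shapeOK, Bool.and_eq_true, List.all_eq_true, List.mem_range, Bool.or_eq_true,
      Bool.not_eq_true', beq_iff_eq] at hshape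
    have hup := (segment_bound C hp.out.pos γ ⊥ (fun b hb d => by rw [Subgroup.mem_bot.1 hb, one_mul, mul_one])
      hshape.2 fun r hr0 => ⟨1, one_mem _, by rw [mul_one]; exact hrules r hr0⟩).1
    rw [bot_sup_eq, Subgroup.card_bot, mul_one] at hup
    intro hd
    have hmul := (Subgroup.closure (γ '' {i | i < C.m})).card_mul_index
    rw [le_antisymm hup hcard] at hmul
    have hd' : C.p ^ (C.m + 1) ∣ Nat.card ↥H := by rw [← hmul, pow_succ]; exact mul_dvd_mul_left _ hd
    have := (Nat.Prime.pow_dvd_iff_le_factorization hp.out Nat.card_pos.ne').1 hd'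
    omega

end CfsgLib.Spor.SchurCert.MatBridge
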