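import Cfsg.Agent.Lib.Spor.SchurCert.Stem

/-!
The linear checks modulo two with relations packed as bit masks.
-/

set_option autoImplicit false

namespace CfsgLib.Spor.SchurCert

/-- The variables of odd exponent as bits. -/
def maskF : Form → ℕ
  | [] => 0
  | (v, c) :: L => Nat.xor (if Nat.beq (c % 2) 1 then Nat.shiftLeft 1 v else 0) (maskF L)

/-- The sum of chosen masks. -/
def xorSel (D : List ℕ) : List ℕ → ℕ
  | [] => 0
  | q :: l => Nat.xor (D.getD q 0) (xorSel D l)

/-- All variables are below the bound. -/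
def varsOK (V : ℕ) (L : Form) : Bool := L.all fun t => Nat.blt t.1 V

/-- A mask as a dense vector. -/
def bitsV (V : ℕ) (d : ℕ) : List ℕ := (List.range V).map fun i => (d.testBit i).toNat

/-- Relations agree with masks, one by one. -/
def maskAll (V : ℕ) : List (Form × Form) → List ℕ → Bool
  | e :: es, d :: ds =>
    varsOK V e.1 && varsOK V e.2 && Nat.beq (Nat.xor (maskF e.1) (maskF e.2)) d && maskAll V es ds
  | [], [] => true
  | _, _ => false

variable (C : Cert)

/-- The linear checks with masks. -/
def Cert.maskOK (D : List ℕ) (rows : List (List ℕ)) : Bool :=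
  Nat.beq C.N 2 && C.base.isEmpty && maskAll C.nv C.eqs D &&
  (List.range C.rules.length).all fun r =>
    varsOK C.nv ((r, 1) :: C.adjW (C.rules.getD r ([], [])).1) && varsOK C.nv (C.adjW (C.rules.getD r ([], [])).2) &&
    Nat.beq (Nat.xor (maskF ((r, 1) :: C.adjW (C.rules.getD r ([], [])).1)) (maskF (C.adjW (C.rules.getD r ([], [])).2)))
      (xorSel D (rows.getD r []))

/-- The certificate with the masks unpacked. -/
def Cert.unmask (D : List ℕ) (rows : List (List ℕ)) : Cert :=
  { C with dense := D.map (bitsV C.nv), tgt := rows.map fun l => ([], l.map fun q => (q, 1)) }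

theorem testBit_maskF : ∀ (L : Form) (i : ℕ), (maskF L).testBit i = decide (coef L i % 2 = 1)
  | [], i => by simp [maskF, coef]
  | (v, c) :: L, i => by
    have ih := testBit_maskF L i
    rw [maskF, show ∀ a b : ℕ, Nat.xor a b = a ^^^ b from fun _ _ => rfl, Nat.testBit_xor, ih, coef]
    rw [show Nat.shiftLeft 1 v = 2 ^ v from Nat.one_shiftLeft v]
    by_cases hc : c % 2 = 1
    · have hb : Nat.beq (c % 2) 1 = true := by rw [hc]; rfl
      rw [if_pos hb, Nat.testBit_two_pow]
      by_cases hv : v = i
      · by_cases hl : coef L i % 2 = 1 <;> simp [hv, hl] <;> omega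
      · simp [hv]
    · have hb : Nat.beq (c % 2) 1 = false := by
        rw [show c % 2 = 0 by omega]; rfl
      rw [hb]
      by_cases hv : v = i
      · by_cases hl : coef L i % 2 = 1 <;> simp [hv, hl] <;> omega
      · simp [hv]

theorem getD_bitsV (V d i : ℕ) (hi : i < V) : (bitsV V d).getD i 0 = (d.testBit i).toNat := by
  simp [bitsV, List.getD_eq_getElem?_getD, hi]

theorem getD_bitsV_map (V : ℕ) (D : List ℕ) (q i : ℕ) (hi : i < V) :
    ((D.map (bitsV V)).getD q []).getD i 0 = ((D.getD q 0).testBit i).toNat := by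
  have e : (D.map (bitsV V)).getD q [] = match D[q]? with | some d => bitsV V d | none => [] := by
    rw [List.getD_eq_getElem?_getD, List.getElem?_map]
    cases D[q]? <;> rfl
  rw [e, List.getD_eq_getElem?_getD (l := D)]
  cases D[q]? with
  | some d => exact getD_bitsV V d i hi
  | none => simp

theorem combineD_parity (V : ℕ) (D : List ℕ) : ∀ (l : List ℕ) (i : ℕ), i < V →
    (combineD (D.map (bitsV V)) (l.map fun q => (q, 1))).getD i 0 % 2 = ((xorSel D l).testBit i).toNat
  | [], i, _ => by simp [combineD, xorSel]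
  | q :: l, i, hi => by
    have ih := combineD_parity V D l i hi
    simp only [combineD, List.map_cons, List.foldr_cons] at ih ⊢
    rw [getD_addv, getD_map_mul, one_mul, getD_bitsV_map V D q i hi, Nat.add_mod, ih, xorSel,
      show ∀ a b : ℕ, Nat.xor a b = a ^^^ b from fun _ _ => rfl, Nat.testBit_xor]
    cases (D.getD q 0).testBit i <;> cases (xorSel D l).testBit i <;> rfl

theorem denseEq_of_mask {V : ℕ} {L M : Form} {d : List ℕ} {x : ℕ} (hL : varsOK V L = true) (hM : varsOK V M = true)
    (h : Nat.xor (maskF L) (maskF M) = x) (hd : ∀ i, i < V → d.getD i 0 % 2 = (x.testBit i).toNat) :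
    denseEq 2 V L M d = true := by
  simp only [denseEq, Bool.and_eq_true, List.all_eq_true, List.mem_range]
  simp only [varsOK, List.all_eq_true] at hL hM
  refine ⟨⟨hL, hM⟩, fun i hi => ?_⟩
  have e : coef L i % 2 = (coef M i + d.getD i 0) % 2 := by
    rw [Nat.add_mod, hd i hi, ← h, show ∀ a b : ℕ, Nat.xor a b = a ^^^ b from fun _ _ => rfl, Nat.testBit_xor,
      testBit_maskF, testBit_maskF]
    rcases Nat.mod_two_eq_zero_or_one (coef L i) with hl | hl <;>
      rcases Nat.mod_two_eq_zero_or_one (coef M i) with hm | hm <;> simp [hl, hm]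
  rw [e]
  exact Nat.beq_refl _

theorem denseAll_of_maskAll (hN : C.N = 2) : ∀ {es : List (Form × Form)} {D : List ℕ},
    maskAll C.nv es D = true → C.denseAll es (D.map (bitsV C.nv)) = true
  | [], [], _ => rfl
  | [], _ :: _, h => by simp [maskAll] at h
  | _ :: _, [], h => by simp [maskAll] at h
  | e :: es, d :: D, h => by
    simp only [maskAll, Bool.and_eq_true] at h
    obtain ⟨⟨⟨hL, hM⟩, hx⟩, hr⟩ := h
    simp only [List.map_cons, Cert.denseAll, Bool.and_eq_true]
    refine ⟨?_, denseAll_of_maskAll hN hr⟩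
    rw [hN]
    exact denseEq_of_mask hL hM (Nat.eq_of_beq_eq_true hx) fun i hi => by
      rw [getD_bitsV C.nv d i hi]
      cases d.testBit i <;> rfl

theorem denseAll_congr {C' : Cert} (hN : C'.N = C.N) (hv : C'.nv = C.nv) :
    ∀ (es : List (Form × Form)) (ds : List (List ℕ)), C'.denseAll es ds = C.denseAll es ds
  | [], [] => rfl
  | [], _ :: _ => rfl
  | _ :: _, [] => rfl
  | e :: es, d :: ds => by simp only [Cert.denseAll, hN, hv, denseAll_congr hN hv es ds]

theorem linOK_of_maskOK {D : List ℕ} {rows : List (List ℕ)} (h : C.maskOK D rows = true) :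
    (C.unmask D rows).linOK = true := by
  simp only [Cert.maskOK, Bool.and_eq_true, List.all_eq_true, List.mem_range] at h
  obtain ⟨⟨⟨hN, hb⟩, hall⟩, hrow⟩ := h
  have hN' : C.N = 2 := Nat.eq_of_beq_eq_true hN
  simp only [Cert.linOK, Bool.and_eq_true, List.all_eq_true, List.mem_range]
  have he : (C.unmask D rows).eqs = C.eqs := rfl
  refine ⟨⟨?_, fun r hr => ?_⟩, ?_⟩
  · rw [he]
    exact (denseAll_congr C (C' := C.unmask D rows) rfl rfl _ _).trans (denseAll_of_maskAll C hN' hall)
  · obtain ⟨⟨hL, hM⟩, hx⟩ := hrow r hr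
    have ht : (C.unmask D rows).tgt.getD r ([], []) = ([], (rows.getD r []).map fun q => (q, 1)) := by
      show (rows.map fun l => (([] : List (ℕ × ℕ)), l.map fun q => (q, 1))).getD r ([], []) = _
      by_cases hl : r < rows.length
      · rw [List.getD_eq_getElem _ _ (by rw [List.length_map]; exact hl), List.getElem_map,
          List.getD_eq_getElem _ _ hl]
      · rw [List.getD_eq_default _ _ (by rw [List.length_map]; omega), List.getD_eq_default (l := rows) _ (by omega)]
        rfl
    rw [ht]
    refine ⟨fun t htt => absurd htt List.not_mem_nil, ?_⟩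
    show denseEq C.N C.nv _ _ (combineD (D.map (bitsV C.nv)) _) = true
    rw [hN']
    simp only [Cert.baseComb, List.map_nil, List.flatten_nil, List.append_nil]
    exact denseEq_of_mask hL hM (Nat.eq_of_beq_eq_true hx) fun i hi => combineD_parity C.nv D _ i hi
  · intro b hb'
    have : C.base = [] := List.isEmpty_iff.1 hb
    rw [show (C.unmask D rows).base = C.base from rfl, this] at hb'
    exact absurd hb' List.not_mem_nil

theorem shapeOK_unmask (D : List ℕ) (rows : List (List ℕ)) : (C.unmask D rows).shapeOK = C.shapeOK := rfl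

variable {Γ : Type*} [Group Γ] [Finite Γ] {G : Type*} [Group G] {σ : Γ →* G}

/-- With mask checks, two does not divide the kernel. -/
theorem not_dvd_ker_mask (hσ : Cfsg.IsStemExtension σ) [hp : Fact C.p.Prime] (hN : C.N = C.p) {D : List ℕ}
    {rows : List (List ℕ)} (hlin : C.maskOK D rows = true) (γ : ℕ → G) (conj : ℕ → G)
    (hrules : ∀ r, r < C.rules.length → wv γ (C.rules.getD r ([], [])).1 = wv γ (C.rules.getD r ([], [])).2)
    (hmaps : ∀ f, f < C.maps.length → ∀ i, i < (C.pairs f).length →
      conj f * wv γ ((C.pairs f).getD i ([], [])).1 * (conj f)⁻¹ = wv γ ((C.pairs f).getD i ([], [])).2)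
    (hshape : C.shapeOK = true)
    (hcard : C.p ^ C.m ≤ Nat.card (Subgroup.closure (γ '' {i | i < C.m}) : Subgroup G))
    (hindex : ¬ C.p ∣ (Subgroup.closure (γ '' {i | i < C.m}) : Subgroup G).index) : ¬ C.p ∣ Nat.card σ.ker := by
  have hb : C.base.isEmpty = true := by
    simp only [Cert.maskOK, Bool.and_eq_true] at hlin
    exact hlin.1.1.2
  haveI : Fact (C.unmask D rows).p.Prime := hp
  exact not_dvd_ker (C.unmask D rows) hσ hN hb γ conj hrules hmaps hshape (linOK_of_maskOK C hlin) hcard hindex

end CfsgLib.Spor.SchurCert
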