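import Cfsg.Agent.Lib.Spor.SchurCert.ActBridge
import Cfsg.Agent.Lib.Spor.TC.Strict

/-!
The checks of long words with every intermediate point evaluated before use.
-/

set_option autoImplicit false

namespace CfsgLib.Spor.SchurCert

open CfsgLib.Spor.TC CfsgLib.Spor.ActCert

variable (A : Act)

/-- Two words agree on the base, evaluated letter by letter. -/
noncomputable def sameWS (Ls : List WLevel) (a b : List ℕ) : Bool :=
  (a.all fun x => Nat.blt x A.K) && (b.all fun x => Nat.blt x A.K) &&
    Ls.all fun L => Nat.beq (A.wactS a L.base) (A.wactS b L.base)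

theorem sameWS_eq (Ls : List WLevel) (a b : List ℕ) : sameWS A Ls a b = sameW A Ls a b := by
  simp only [sameWS, sameW, Act.wactS_eq]

/-- The identities, evaluated letter by letter. -/
noncomputable def identS (C : Cert) (sw gw : List (List ℕ)) (Ls : List WLevel) : Bool :=
  Nat.beq sw.length C.m && Nat.beq gw.length C.maps.length &&
    (C.rules.all fun r => sameWS A Ls (expand sw r.1) (expand sw r.2)) &&
    (List.range C.maps.length).all fun f => (C.pairs f).all fun P =>
      sameWS A Ls (gw.getD f [] ++ expand sw P.1) (expand sw P.2 ++ gw.getD f [])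

theorem identOK_of_identS {C : Cert} {sw gw : List (List ℕ)} {Ls : List WLevel}
    (h : identS A C sw gw Ls = true) : identOK A C sw gw Ls = true := by
  simpa only [identS, identOK, sameWS_eq] using h

/-- The orbits inside the subgroup, evaluated letter by letter. -/
noncomputable def subChainS (sw : List (List ℕ)) : List ℕ → List (ℕ × List (ℕ × List ℕ)) → Bool
  | _, [] => true
  | fixed, (b, T) :: rest =>
    Nat.blt b A.n && ascending (T.map Prod.fst) &&
      (T.all fun e => (e.2.all fun i => Nat.blt i sw.length) &&
        ((expand sw e.2).all fun x => Nat.blt x A.K) &&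
        (fixed.all fun c => Nat.beq (A.wactS (expand sw e.2) c) c) &&
        Nat.beq (A.wactS (expand sw e.2) b) e.1) &&
      subChainS sw (b :: fixed) rest

theorem subChainS_eq (sw : List (List ℕ)) : ∀ (T : List (ℕ × List (ℕ × List ℕ))) (fixed : List ℕ),
    subChainS A sw fixed T = subChainOK A sw fixed T
  | [], _ => rfl
  | (b, T) :: rest, fixed => by
    simp only [subChainS, subChainOK, Act.wactS_eq, subChainS_eq sw rest]

theorem subChainOK_of_subChainS {sw : List (List ℕ)} {T : List (ℕ × List (ℕ × List ℕ))}
    (h : subChainS A sw [] T = true) : subChainOK A sw [] T = true := subChainS_eq A sw T [] ▸ h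

end CfsgLib.Spor.SchurCert
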