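import Cfsg.Agent.Lib.Spor.SchurCert.Stem

/-!
A multiplier whose order is a product of two primes: the fibre product of two covers, and two bounds.
-/

set_option autoImplicit false

namespace CfsgLib.Spor.SchurCert

open Subgroup

universe u

/-- An element of a product of two distinct primes' order from elements of each. -/
theorem isCyclic_of_card_two_primes {K : Type*} [Group K] [Finite K] {p q : ℕ} (hp : p.Prime) (hq : q.Prime)
    (hne : p ≠ q) (hcomm : ∀ a b : K, a * b = b * a) {c : ℕ} (hc : Nat.card K = c) (hdvd : c ∣ p * q) :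
    IsCyclic K := by
  subst hc
  have key : ∀ r : ℕ, r.Prime → ∃ x : K, orderOf x = if r ∣ Nat.card K then r else 1 := fun r hr => by
    split_ifs with h
    · haveI := Fact.mk hr
      exact exists_prime_orderOf_dvd_card' r h
    · exact ⟨1, orderOf_one⟩
  obtain ⟨x, hx⟩ := key p hp
  obtain ⟨y, hy⟩ := key q hq
  have hcop : Nat.Coprime (orderOf x) (orderOf y) := by
    rw [hx, hy]
    split_ifs <;> first | exact (Nat.coprime_primes hp hq).2 hne | simp
  refine isCyclic_of_orderOf_eq_card (x * y) ?_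
  rw [Commute.orderOf_mul_eq_mul_orderOf_of_coprime (hcomm x y) hcop, hx, hy]
  rcases Nat.dvd_mul.1 hdvd with ⟨d, e, hd, he, hde⟩
  rw [← hde]
  rcases (Nat.dvd_prime hp).1 hd with rfl | rfl <;> rcases (Nat.dvd_prime hq).1 he with rfl | rfl
  · simp [hp.ne_one, hq.ne_one]
  · simp [(Nat.prime_dvd_prime_iff_eq hp hq).not.2 hne]
  · simp [(Nat.prime_dvd_prime_iff_eq hq hp).not.2 (Ne.symm hne)]
  · rw [if_pos (dvd_mul_right _ _), if_pos (dvd_mul_left _ _)]

/-- A multiplier of order a product of two primes, from a cover at each and a bound. -/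
theorem hasCyclic_two_primes {G : Type u} [Group G] {p q : ℕ} (hp : p.Prime) (hq : q.Prime) (hne : p ≠ q)
    (coverP : ∃ (Γ : Type u) (_ : Group Γ) (_ : Finite Γ) (σ : Γ →* G), Cfsg.IsStemExtension σ ∧ Nat.card σ.ker = p)
    (coverQ : ∃ (Γ : Type u) (_ : Group Γ) (_ : Finite Γ) (σ : Γ →* G), Cfsg.IsStemExtension σ ∧ Nat.card σ.ker = q)
    (bound : ∀ (Γ : Type u) [Group Γ] [Finite Γ] (σ : Γ →* G), Cfsg.IsStemExtension σ → Nat.card σ.ker ∣ p * q) :
    Cfsg.HasCyclicSchurMultiplier G (p * q) := by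
  obtain ⟨A, iA, fA, α, ⟨hαs, hαc, hαk⟩, hαn⟩ := coverP
  obtain ⟨B, iB, fB, β, ⟨hβs, hβc, hβk⟩, hβn⟩ := coverQ
  let W : Subgroup (A × B) :=
    { carrier := {x | α x.1 = β x.2}
      one_mem' := by simp
      mul_mem' := fun {x y} hx hy => by simp only [Set.mem_setOf_eq, Prod.fst_mul, Prod.snd_mul, map_mul] at *; rw [hx, hy]
      inv_mem' := fun {x} hx => by simp only [Set.mem_setOf_eq, Prod.fst_inv, Prod.snd_inv, map_inv] at *; rw [hx] }
  let σ : W →* G := α.comp ((MonoidHom.fst A B).comp W.subtype)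
  have hker : ∀ x : W, x ∈ σ.ker ↔ α x.1.1 = 1 := fun x => MonoidHom.mem_ker
  have hσs : Function.Surjective σ := fun g => by
    obtain ⟨a, ha⟩ := hαs g
    obtain ⟨b, hb⟩ := hβs g
    exact ⟨⟨(a, b), ha.trans hb.symm⟩, ha⟩
  have hσc : σ.ker ≤ Subgroup.center W := fun x hx => Subgroup.mem_center_iff.2 fun y => Subtype.ext (Prod.ext
    (Subgroup.mem_center_iff.1 (hαc ((hker x).1 hx)) y.1.1)
    (Subgroup.mem_center_iff.1 (hβc (MonoidHom.mem_ker.2 ((x.2 : α x.1.1 = β x.1.2).symm.trans ((hker x).1 hx))))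
      y.1.2))
  -- the projections are onto, so their derived subgroups are hit
  let π₁ : W →* A := (MonoidHom.fst A B).comp W.subtype
  let π₂ : W →* B := (MonoidHom.snd A B).comp W.subtype
  have s₁ : Function.Surjective π₁ := fun a => by
    obtain ⟨b, hb⟩ := hβs (α a)
    exact ⟨⟨(a, b), hb.symm⟩, rfl⟩
  have s₂ : Function.Surjective π₂ := fun b => by
    obtain ⟨a, ha⟩ := hαs (β b)
    exact ⟨⟨(a, b), ha⟩, rfl⟩
  have hmap : ∀ {C : Type u} [Group C] (f : W →* C), Function.Surjective f → (commutator W).map f = commutator C :=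
    fun f hf => by rw [commutator_def, Subgroup.map_commutator, Subgroup.map_top_of_surjective f hf, commutator_def]
  have hαabs : ∀ a ∈ α.ker, a ^ p = 1 := fun a ha => by
    have h := pow_card_eq_one' (G := α.ker) (x := ⟨a, ha⟩)
    rw [hαn] at h
    exact congrArg Subtype.val h
  have hβabs : ∀ b ∈ β.ker, b ^ q = 1 := fun b hb => by
    have h := pow_card_eq_one' (G := β.ker) (x := ⟨b, hb⟩)
    rw [hβn] at h
    exact congrArg Subtype.val h
  have hcop : Nat.Coprime p q := (Nat.coprime_primes hp hq).2 hne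
  have hσk : σ.ker ≤ commutator W := by
    intro x hx
    have h1 : α x.1.1 = 1 := (hker x).1 hx
    have h2 : β x.1.2 = 1 := (x.2 : α x.1.1 = β x.1.2).symm.trans h1
    obtain ⟨u, hu, eu⟩ : x.1.1 ∈ (commutator W).map π₁ := by rw [hmap π₁ s₁]; exact hαk h1
    obtain ⟨v, hv, ev⟩ : x.1.2 ∈ (commutator W).map π₂ := by rw [hmap π₂ s₂]; exact hβk h2
    have eu' : u.1.1 = x.1.1 := eu
    have ev' : v.1.2 = x.1.2 := ev
    have hu2 : u.1.2 ^ q = 1 := hβabs _ (MonoidHom.mem_ker.2 (by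
      rw [← (u.2 : α u.1.1 = β u.1.2), eu', h1]))
    have hv1 : v.1.1 ^ p = 1 := hαabs _ (MonoidHom.mem_ker.2 (by
      rw [(v.2 : α v.1.1 = β v.1.2), ev', h2]))
    obtain ⟨s, t, hst⟩ : ∃ s t : ℤ, s * q + t * p = 1 := by
      obtain ⟨s, t, h⟩ := (Int.isCoprime_iff_nat_coprime.2 (by simpa using hcop.symm) : IsCoprime (q : ℤ) p)
      exact ⟨s, t, h⟩
    have e : x = u ^ (s * q) * v ^ (t * p) := by
      have hu1 : x.1.1 ^ p = 1 := hαabs _ h1
      have hv2 : x.1.2 ^ q = 1 := hβabs _ h2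
      refine Subtype.ext (Prod.ext ?_ ?_)
      · show x.1.1 = (((u ^ (s * q) : W) : A × B) * ((v ^ (t * p) : W) : A × B)).1
        rw [Subgroup.coe_zpow, Subgroup.coe_zpow, Prod.fst_mul, Prod.pow_fst, Prod.pow_fst, eu',
          mul_comm t, zpow_mul v.1.1, zpow_natCast, hv1, one_zpow, mul_one,
          show s * q = 1 + p * (-t) by linear_combination hst, zpow_add, zpow_one, zpow_mul, zpow_natCast, hu1,
          one_zpow, mul_one]
      · show x.1.2 = (((u ^ (s * q) : W) : A × B) * ((v ^ (t * p) : W) : A × B)).2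
        rw [Subgroup.coe_zpow, Subgroup.coe_zpow, Prod.snd_mul, Prod.pow_snd, Prod.pow_snd, ev',
          mul_comm s, zpow_mul u.1.2, zpow_natCast, hu2, one_zpow, one_mul,
          show t * p = 1 + q * (-s) by linear_combination hst, zpow_add, zpow_one, zpow_mul, zpow_natCast, hv2,
          one_zpow, mul_one]
    rw [e]
    exact mul_mem (zpow_mem hu _) (zpow_mem hv _)
  have hcard : Nat.card σ.ker = p * q := by
    rw [← hαn, ← hβn, ← Nat.card_prod]
    refine Nat.card_congr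
      { toFun := fun x => (⟨x.1.1.1, MonoidHom.mem_ker.2 ((hker _).1 x.2)⟩,
          ⟨x.1.1.2, MonoidHom.mem_ker.2 ((x.1.2 : α x.1.1.1 = β x.1.1.2).symm.trans ((hker _).1 x.2))⟩)
        invFun := fun ab => ⟨⟨(ab.1.1, ab.2.1),
          (MonoidHom.mem_ker.1 ab.1.2).trans (MonoidHom.mem_ker.1 ab.2.2).symm⟩, (hker _).2 (MonoidHom.mem_ker.1 ab.1.2)⟩
        left_inv := fun _ => rfl
        right_inv := fun _ => rfl }
  have hz : Nat.card (Multiplicative (ZMod (p * q))) = p * q :=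
    (Nat.card_congr Multiplicative.toAdd).trans (Nat.card_zmod _)
  haveI : NeZero (p * q) := ⟨Nat.mul_ne_zero hp.ne_zero hq.ne_zero⟩
  haveI : IsCyclic σ.ker := isCyclic_of_card_two_primes hp hq hne
    (fun a b => Subtype.ext (Subgroup.mem_center_iff.1 (hσc b.2) a.1)) hcard dvd_rfl
  refine ⟨⟨W, inferInstance, inferInstance, σ, ⟨hσs, hσc, hσk⟩, ⟨mulEquivOfCyclicCardEq (hcard.trans hz.symm)⟩⟩,
    fun Δ _ _ τ hτ => ?_⟩
  have hd := bound Δ τ hτ
  haveI : IsCyclic τ.ker := isCyclic_of_card_two_primes hp hq hne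
    (fun a b => Subtype.ext (Subgroup.mem_center_iff.1 (hτ.2.1 b.2) a.1)) rfl hd
  obtain ⟨g, hg⟩ := IsCyclic.exists_generator (α := τ.ker)
  have hg' : g ^ ((p * q : ℕ) : ℤ) = 1 := by
    rw [zpow_natCast, ← orderOf_dvd_iff_pow_eq_one]
    exact (orderOf_dvd_natCard g).trans hd
  let π₀ : ZMod (p * q) →+ Additive τ.ker :=
    ZMod.lift (p * q) ⟨zmultiplesHom (Additive τ.ker) (Additive.ofMul g), by
      simpa [zmultiplesHom_apply] using congrArg Additive.ofMul hg'⟩
  refine ⟨AddMonoidHom.toMultiplicativeLeft π₀, fun k => ?_⟩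
  obtain ⟨i, hi⟩ := Subgroup.mem_zpowers_iff.1 (hg k)
  refine ⟨Multiplicative.ofAdd ((i : ZMod (p * q))), ?_⟩
  show Additive.toMul (π₀ (i : ZMod (p * q))) = k
  rw [ZMod.lift_coe, ← hi]
  rfl

end CfsgLib.Spor.SchurCert
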