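import Cfsg.Agent.Lib.Spor.SchurCert.LinPacked

/-!
The packed linear check in consecutive pieces, each small enough for one kernel computation.
-/

set_option autoImplicit false

namespace CfsgLib.Spor.SchurCert.Packed

theorem allP_append (C : Cert) : ∀ (es es' : List (Form × Form)) (D D' : List (List ℕ)),
    allP C es D = true → allP C es' D' = true → allP C (es ++ es') (D ++ D') = true
  | [], _, [], _, _, h' => h'
  | [], _, _ :: _, _, h, _ => by simp [allP] at h
  | _ :: _, _, [], _, h, _ => by simp [allP] at h
  | e :: es, es', d :: D, D', h, h' => by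
    simp only [allP, Bool.and_eq_true, List.cons_append] at h ⊢
    exact ⟨h.1, allP_append C es es' D D' h.2 h'⟩

variable (C : Cert)

/-- The overlap relations in a range agree with their vectors. -/
def ovP (i n : ℕ) : Bool :=
  allP C (((C.overlaps.drop i).take n).map C.ovEq) (((C.dense.take C.overlaps.length).drop i).take n)

/-- The conjugation relations in a range agree with their vectors. -/
def fuP (i n : ℕ) : Bool :=
  allP C (((C.fuses.drop i).take n).map C.fuEq) ((C.dense.drop (C.overlaps.length + i)).take n)

/-- The rule relations in a range follow. -/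
def ruleP (i n : ℕ) : Bool :=
  let P := C.dense.map pkD
  (List.range n).all fun j =>
    Nat.ble C.rules.length (i + j) ||
    (((C.tgt.getD (i + j) ([], [])).1.all fun t => Nat.blt t.1 C.base.length) &&
    eqP C.N C.nv (((i + j), 1) :: C.adjW (C.rules.getD (i + j) ([], [])).1)
      (C.adjW (C.rules.getD (i + j) ([], [])).2 ++ C.baseComb (C.tgt.getD (i + j) ([], [])).1)
      (pkC P (C.tgt.getD (i + j) ([], [])).2) (mass (C.tgt.getD (i + j) ([], [])).2 * C.N))

/-- The bound on the entries, and the orders of what remains. -/
def restP : Bool :=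
  let P := C.dense.map pkD
  (C.dense.all fun d => d.all fun x => Nat.ble x C.N) &&
  C.base.all fun b => Nat.blt 0 b.2.1 &&
    eqP C.N C.nv (scale b.2.1 b.1) [] (pkC P b.2.2) (mass b.2.2 * C.N)

theorem all_chunks {α : Type} (f : α → Form × Form) (k : ℕ) (l : List α) (D : List (List ℕ)) :
    ∀ n : ℕ, (∀ i < n, allP C (((l.drop (i * k)).take k).map f) ((D.drop (i * k)).take k) = true) →
      allP C ((l.take (n * k)).map f) (D.take (n * k)) = true
  | 0, _ => by simp [allP]
  | n + 1, h => by
    rw [Nat.succ_mul, List.take_add, List.take_add, List.map_append]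
    exact allP_append C _ _ _ _ (all_chunks f k l D n fun i hi => h i (by omega)) (h n (by omega))

theorem linP_of_parts {k no nf nr : ℕ} (hov : ∀ i < no, ovP C (i * k) k = true)
    (hfu : ∀ i < nf, fuP C (i * k) k = true) (hru : ∀ i < nr, ruleP C (i * k) k = true) (hrest : restP C = true)
    (hno : C.overlaps.length ≤ no * k) (hnf : C.fuses.length ≤ nf * k) (hnr : C.rules.length ≤ nr * k)
    (hk : 0 < k) (hD : C.dense.length = C.overlaps.length + C.fuses.length) : linP C = true := by
  have h1 := all_chunks C C.ovEq k C.overlaps (C.dense.take C.overlaps.length) no fun i hi => hov i hi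
  rw [List.take_of_length_le hno, List.take_of_length_le (by rw [List.length_take]; omega)] at h1
  have h2 := all_chunks C C.fuEq k C.fuses (C.dense.drop C.overlaps.length) nf fun i hi => by
    have h := hfu i hi
    rwa [fuP, ← List.drop_drop] at h
  rw [List.take_of_length_le hnf, List.take_of_length_le (by rw [List.length_drop]; omega)] at h2
  have h3 := allP_append C _ _ _ _ h1 h2
  rw [List.take_append_drop] at h3
  simp only [restP, Bool.and_eq_true] at hrest
  simp only [linP, Bool.and_eq_true, List.all_eq_true, List.mem_range]
  refine ⟨⟨⟨List.all_eq_true.1 hrest.1 |> fun h d hd x hx => List.all_eq_true.1 (h d hd) x hx, h3⟩, fun r hr => ?_⟩,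
    fun b hb => by
      have := List.all_eq_true.1 hrest.2 b hb
      simpa only [Bool.and_eq_true] using this⟩
  have hq : r / k < nr := Nat.div_lt_iff_lt_mul hk |>.2 (by omega)
  have h4 := hru (r / k) hq
  simp only [ruleP, List.all_eq_true, List.mem_range, Bool.or_eq_true, Bool.and_eq_true] at h4
  rcases h4 (r % k) (Nat.mod_lt _ hk) with h5 | h5
  · exfalso
    have := Nat.le_of_ble_eq_true h5
    rw [Nat.div_add_mod' r k] at this
    omega
  · rwa [Nat.div_add_mod' r k] at h5

end CfsgLib.Spor.SchurCert.Packed
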