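import Cfsg.Agent.Lib.Spor.SchurCert.StrictChecks

/-!
The checks of long words in pieces, each small enough for one kernel computation.
-/

set_option autoImplicit false

namespace CfsgLib.Spor.SchurCert

open CfsgLib.Spor.TC CfsgLib.Spor.ActCert

variable (A : Act)

/-- The entries of an orbit in a part of the list. -/
noncomputable def entriesS (sw : List (List ℕ)) (fixed : List ℕ) (b : ℕ) (T : List (ℕ × List ℕ)) : Bool :=
  T.all fun e => (e.2.all fun i => Nat.blt i sw.length) &&
    ((expand sw e.2).all fun x => Nat.blt x A.K) &&
    (fixed.all fun c => Nat.beq (A.wactS (expand sw e.2) c) c) &&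
    Nat.beq (A.wactS (expand sw e.2) b) e.1

theorem entriesS_append {sw : List (List ℕ)} {fixed : List ℕ} {b : ℕ} {T T' : List (ℕ × List ℕ)}
    (h : entriesS A sw fixed b T = true) (h' : entriesS A sw fixed b T' = true) :
    entriesS A sw fixed b (T ++ T') = true := by
  unfold entriesS at *
  rw [List.all_append, h, h']
  rfl

theorem subChainS_cons {sw : List (List ℕ)} {fixed : List ℕ} {b : ℕ} {T : List (ℕ × List ℕ)}
    {rest : List (ℕ × List (ℕ × List ℕ))} (hb : Nat.blt b A.n = true) (ha : ascending (T.map Prod.fst) = true)
    (hT : entriesS A sw fixed b T = true) (hrest : subChainS A sw (b :: fixed) rest = true) :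
    subChainS A sw fixed ((b, T) :: rest) = true := by
  unfold entriesS at hT
  rw [subChainS, hb, ha, hT, hrest]
  rfl

/-- The identities of the rules in a range. -/
noncomputable def rulesS (C : Cert) (sw : List (List ℕ)) (Ls : List WLevel) (i n : ℕ) : Bool :=
  ((C.rules.drop i).take n).all fun r => sameWS A Ls (expand sw r.1) (expand sw r.2)

/-- The identities of one conjugation. -/
noncomputable def mapS (C : Cert) (sw gw : List (List ℕ)) (Ls : List WLevel) (f : ℕ) : Bool :=
  (C.pairs f).all fun P => sameWS A Ls (gw.getD f [] ++ expand sw P.1) (expand sw P.2 ++ gw.getD f [])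

theorem identS_of_parts {C : Cert} {sw gw : List (List ℕ)} {Ls : List WLevel} {k nr : ℕ}
    (hsw : sw.length = C.m) (hgw : gw.length = C.maps.length)
    (hru : ∀ i < nr, rulesS A C sw Ls (i * k) k = true) (hnr : C.rules.length ≤ nr * k)
    (hmap : ∀ f < C.maps.length, mapS A C sw gw Ls f = true) : identS A C sw gw Ls = true := by
  have hall : ∀ n ≤ nr, ((C.rules.take (n * k)).all fun r => sameWS A Ls (expand sw r.1) (expand sw r.2)) = true := by
    intro n
    induction n with
    | zero => intro _; simp
    | succ n ih =>
      intro hn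
      have h := hru n (by omega)
      rw [rulesS] at h
      rw [Nat.succ_mul, List.take_add, List.all_append, ih (by omega), h]
      rfl
  have h1 := hall nr le_rfl
  rw [List.take_of_length_le hnr] at h1
  simp only [identS, Bool.and_eq_true]
  exact ⟨⟨⟨by rw [hsw]; exact Nat.beq_refl _, by rw [hgw]; exact Nat.beq_refl _⟩, h1⟩,
    List.all_eq_true.2 fun f hf => hmap f (List.mem_range.1 hf)⟩

end CfsgLib.Spor.SchurCert
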