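import Cfsg.Agent.Lib.Spor.Leech.Census.Orbit
import Cfsg.Agent.Lib.Spor.Leech.ModTwo

/-!
Centralisers in a vector stabilizer: a commuting element is determined by the images of a few vectors, which have
products prescribed along the powers; wrong tuples break the divisibility of products by eight.
-/

set_option autoImplicit false
set_option maxHeartbeats 400000

namespace CfsgLib.Spor.SchurCert.CentCheck

open Cfsg MulAction CfsgLib.Spor.Leech CfsgLib.Spor.Leech.Census32

/-- A coordinate of a packed vector. -/
def dig (X i : ℕ) : ℤ := ((X / 40503 ^ i % 40503 : ℕ) : ℤ) - 8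

/-- The digits in reverse order. -/
def revN (Y : ℕ) : ℕ := pk (fun i => Y / 40503 ^ (23 - i) % 40503) 0 24

/-- The middle digit of a product. -/
def dotN (X RY : ℕ) : ℕ := Nat.mod (Nat.div (Nat.mul X RY) top) 40503

/-- The product of two packed vectors. -/
def dotC (X Y : ℕ) : ℤ :=
  (dotN X (revN Y) : ℤ) - 8 * ((X % 40502 : ℕ) : ℤ) - 8 * ((Y % 40502 : ℕ) : ℤ) + 1536

/-- Two products are equal. -/
def sameDot (c c' b b' : ℕ) : Bool :=
  Nat.beq (Nat.add (dotN c (revN c')) (Nat.mul 8 (Nat.add (b % 40502) (b' % 40502))))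
    (Nat.add (dotN b (revN b')) (Nat.mul 8 (Nat.add (c % 40502) (c' % 40502))))

/-- The data. -/
structure Data where
  /-- Words for the powers. -/
  zs : List (List ℕ)
  /-- The chosen vectors, as words from the start. -/
  bs : List (List ℕ)
  /-- The possible images of each. -/
  cands : List (List ℕ)
  den : ℕ
  /-- The unit vectors from the orbits and the marked vector. -/
  span : List (List ℤ)
  /-- Relations with a start word, and a word from the marked vector for the vector to test against. -/
  refs : List (List ℤ × List ℕ × List ℕ)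

variable (D : Data) (Ms : List Mat) (X0 U : ℕ)

/-- The packed chosen vectors. -/
noncomputable def Data.codes : List ℕ := D.bs.map (walk Ms X0)

/-- A possible image keeps its own products. -/
noncomputable def selfOK (b c : ℕ) : Bool :=
  D.zs.all fun z => sameDot c (walk Ms c z) b (walk Ms b z)

/-- A possible image keeps the products with an earlier one. -/
noncomputable def crossOK (b' c' b c : ℕ) : Bool :=
  D.zs.all fun z => sameDot c' (walk Ms c z) b' (walk Ms b z)

/-- The orbits of a tuple and the marked vector. -/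
noncomputable def family (t : List ℕ) : List ℕ := (t.flatMap fun b => D.zs.map (walk Ms b)) ++ [U]

/-- A weighted sum of numbers. -/
def wsum (co : List ℤ) (vs : List ℤ) : ℤ := (List.zipWith (· * ·) co vs).sum

/-- A tuple of images is that of a power, or is impossible. -/
noncomputable def leafOK (acc : List (ℕ × ℕ)) : Bool :=
  (D.zs.any fun z => acc.all fun p => Nat.beq (walk Ms p.1 z) p.2) ||
    D.refs.any fun r =>
      wsum r.1 ((family D Ms U (acc.map Prod.snd)).map fun v => dotC v (walk Ms U r.2.2)) % (8 * (D.den : ℤ)) != 0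

/-- All tuples. -/
noncomputable def search : List (ℕ × List ℕ) → List (ℕ × ℕ) → Bool
  | [], acc => leafOK D Ms U acc
  | (b, cs) :: rest, acc =>
    cs.all fun c => !(acc.all fun p => crossOK D Ms p.1 p.2 b c) || search rest (acc ++ [(b, c)])

/-- The checks on the relations. -/
noncomputable def relsOK : Bool :=
  let F := family D Ms U (D.codes Ms X0)
  (D.refs.all fun r => Nat.beq r.1.length F.length &&
    (List.range 24).all fun j =>
      wsum r.1 (F.map fun v => dig v j) == (D.den : ℤ) * dig (walk Ms X0 r.2.1) j) &&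
  Nat.beq D.span.length 24 && Nat.blt 0 D.den &&
  (List.range 24).all fun i => Nat.beq (D.span.getD i []).length F.length &&
    (List.range 24).all fun j =>
      wsum (D.span.getD i []) (F.map fun v => dig v j) == (D.den : ℤ) * (if i == j then 8 else 0)

/-- The checks on the possible images. -/
noncomputable def candsOK (C : List (ℕ × ℕ)) : Bool :=
  Nat.beq D.cands.length D.bs.length &&
  (List.range D.bs.length).all fun i =>
    ((chosen C).all fun c => !selfOK D Ms ((D.codes Ms X0).getD i 0) c || (D.cands.getD i []).any (Nat.beq c)) &&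
      (chosen C).any (Nat.beq ((D.codes Ms X0).getD i 0))

/-! ### What the checks mean -/

theorem dig_enc {x : GolayPt → ℤ} (h : Small x) {i : ℕ} (hi : i < 24) : dig (enc x) i = x (idxPt i) := by
  have := congrFun (dec_enc h) (idxPt i)
  rw [dec, ptIdx_idxPt i hi] at this
  exact this

theorem revN_enc {x : GolayPt → ℤ} (h : Small x) : revN (enc x) = rev x := by
  refine pk_congr 24 0 fun i _ hi => ?_
  have := dig_enc h (i := 23 - i) (by omega)
  unfold dig at this
  have := h (idxPt (23 - i))
  omega

theorem dotN_enc {x y : GolayPt → ℤ} (hx : Small x) (hy : Small y) :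
    (dotN (enc x) (rev y) : ℤ) = dotInt x y + 8 * ∑ p, x p + (8 * ∑ p, y p + 1536) := by
  have h1 : ∀ i, (x (idxPt i) + 8).toNat ≤ 16 := fun i => by have := hx (idxPt i); omega
  have hpt : ∀ F : GolayPt → ℤ, ∑ p, F p = ∑ i ∈ Finset.range 24, F (idxPt i) := fun F =>
    Finset.sum_bij' (fun p _ => ptIdx p) (fun i _ => idxPt i) (fun p _ => Finset.mem_range.2 (ptIdx_lt p))
      (fun i _ => Finset.mem_univ _) (fun p _ => idxPt_ptIdx p)
      (fun i hi => ptIdx_idxPt i (Finset.mem_range.1 hi)) fun p _ => by rw [idxPt_ptIdx]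
  have hm : dotN (enc x) (rev y) =
      ∑ i ∈ Finset.range 24, (x (idxPt i) + 8).toNat * (y (idxPt (23 - (23 - i))) + 8).toNat := by
    show enc x * rev y / top % 40503 = _
    rw [show top = 40503 ^ 23 by decide +kernel, rev, enc,
      middle h1 (fun i => by have := hy (idxPt (23 - i)); omega)]
  rw [hm, dotInt, hpt, hpt x, hpt y, Nat.cast_sum, Finset.mul_sum, Finset.mul_sum,
    show (1536 : ℤ) = ∑ i ∈ Finset.range 24, 64 by simp, ← Finset.sum_add_distrib, ← Finset.sum_add_distrib,
    ← Finset.sum_add_distrib]
  refine Finset.sum_congr rfl fun i hi => ?_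
  rw [show 23 - (23 - i) = i from Nat.sub_sub_self (by simp at hi; omega), Nat.cast_mul,
    Int.toNat_of_nonneg (by have := hx (idxPt i); omega), Int.toNat_of_nonneg (by have := hy (idxPt i); omega)]
  ring

theorem enc_mod {x : GolayPt → ℤ} (hx : Small x) : ((enc x % 40502 : ℕ) : ℤ) = ∑ p, x p + 192 := by
  have h1 : ∀ i, (x (idxPt i) + 8).toNat ≤ 16 := fun i => by have := hx (idxPt i); omega
  rw [enc, pk_mod, Nat.zero_add, ← Finset.range_eq_Ico,
    Nat.mod_eq_of_lt (lt_of_le_of_lt (Finset.sum_le_card_nsmul _ _ 16 fun i _ => h1 i) (by simp)), Nat.cast_sum,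
    show ∑ p, x p = ∑ i ∈ Finset.range 24, x (idxPt i) from
      Finset.sum_bij' (fun p _ => ptIdx p) (fun i _ => idxPt i) (fun p _ => Finset.mem_range.2 (ptIdx_lt p))
        (fun i _ => Finset.mem_univ _) (fun p _ => idxPt_ptIdx p)
        (fun i hi => ptIdx_idxPt i (Finset.mem_range.1 hi)) fun p _ => by rw [idxPt_ptIdx],
    show (192 : ℤ) = ∑ i ∈ Finset.range 24, 8 by simp, ← Finset.sum_add_distrib]
  exact Finset.sum_congr rfl fun i _ => Int.toNat_of_nonneg (by have := hx (idxPt i); omega)

theorem dotC_enc {x y : GolayPt → ℤ} (hx : Small x) (hy : Small y) : dotC (enc x) (enc y) = dotInt x y := by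
  rw [dotC, revN_enc hy, dotN_enc hx hy, enc_mod hx, enc_mod hy]
  ring

theorem sameDot_enc {a a' b b' : GolayPt → ℤ} (ha : Small a) (ha' : Small a') (hb : Small b) (hb' : Small b')
    (h : dotInt a a' = dotInt b b') : sameDot (enc a) (enc a') (enc b) (enc b') = true := by
  have e1 := dotN_enc ha ha'
  have e2 := dotN_enc hb hb'
  rw [← revN_enc ha'] at e1
  rw [← revN_enc hb'] at e2
  have := enc_mod ha; have := enc_mod ha'; have := enc_mod hb; have := enc_mod hb'
  rw [sameDot, Nat.beq_eq]
  show dotN _ _ + 8 * (_ + _) = dotN _ _ + 8 * (_ + _)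
  omega

attribute [local irreducible] enc walk chosen dotN revN dig

variable {gs : List Co0} {D Ms X0 U}

/-- A combination of vectors. -/
def comb (co : List ℤ) (vs : List leechLattice) : leechLattice := (List.zipWith (· • ·) co vs).sum

theorem co0_zero (g : Co0) : g • (0 : leechLattice) = 0 :=
  map_zero (AddMonoidHom.mk' (fun v : leechLattice => g • v) (co0_add g))

theorem smul_comb (g : Co0) : ∀ (co : List ℤ) (vs : List leechLattice),
    g • comb co vs = comb co (vs.map fun v => g • v)
  | [], vs => by simp [comb, co0_zero]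
  | c :: co, [] => by simp [comb, co0_zero]
  | c :: co, v :: vs => by
    have ih := smul_comb g co vs
    simp only [comb, List.zipWith_cons_cons, List.sum_cons, List.map_cons] at ih ⊢
    rw [co0_add, co0_zsmul, ih]

theorem comb_apply (p : GolayPt) : ∀ (co : List ℤ) (vs : List leechLattice),
    (comb co vs : GolayPt → ℤ) p = wsum co (vs.map fun v : leechLattice => (v : GolayPt → ℤ) p)
  | [], vs => by simp [comb, wsum]
  | c :: co, [] => by simp [comb, wsum]
  | c :: co, v :: vs => by
    have ih := comb_apply p co vs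
    simp only [comb, wsum, List.zipWith_cons_cons, List.sum_cons, List.map_cons] at ih ⊢
    rw [AddSubgroup.coe_add, Pi.add_apply, ih, AddSubgroup.coe_zsmul, Pi.smul_apply, smul_eq_mul]

theorem dot_comb (r : GolayPt → ℤ) : ∀ (co : List ℤ) (vs : List leechLattice),
    dotInt (comb co vs : GolayPt → ℤ) r = wsum co (vs.map fun v : leechLattice => dotInt (v : GolayPt → ℤ) r)
  | [], vs => by simp [comb, wsum, dotInt]
  | c :: co, [] => by simp [comb, wsum, dotInt]
  | c :: co, v :: vs => by
    have ih := dot_comb r co vs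
    simp only [comb, wsum, dotInt, List.zipWith_cons_cons, List.sum_cons, List.map_cons] at ih ⊢
    rw [← ih, Finset.mul_sum, ← Finset.sum_add_distrib]
    refine Finset.sum_congr rfl fun i _ => ?_
    rw [AddSubgroup.coe_add, Pi.add_apply, AddSubgroup.coe_zsmul, Pi.smul_apply, smul_eq_mul]
    ring

section Main

variable (hM : ∀ k, IsMat (gs.getD k 1) (Ms.getD k oneMat)) {x0 u : leechLattice}
  (hx0 : sqNorm (x0 : GolayPt → ℤ) = 32) (hu : sqNorm (u : GolayPt → ℤ) = 32)
  (hX0 : enc (x0 : GolayPt → ℤ) = X0) (hU : enc (u : GolayPt → ℤ) = U)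

/-- The vectors of a tuple's orbits and the marked vector. -/
def vfam (D : Data) (gs : List Co0) (u : leechLattice) (t : List leechLattice) : List leechLattice :=
  (t.flatMap fun b => D.zs.map fun z => wordElt gs z • b) ++ [u]

include hM hU in
theorem family_enc (t : List leechLattice) (ht : ∀ b ∈ t, sqNorm (b : GolayPt → ℤ) = 32) :
    family D Ms U (t.map fun b : leechLattice => enc (b : GolayPt → ℤ)) =
      (vfam D gs u t).map fun b : leechLattice => enc (b : GolayPt → ℤ) := by
  rw [family, vfam, List.map_append, List.map_flatMap, List.flatMap_map, List.map_singleton, hU]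
  congr 1
  refine List.flatMap_congr fun b hb => ?_
  rw [List.map_map]
  exact List.map_congr_left fun z _ => walk_enc hM (by rw [ht b hb]; norm_num) z

include hu in
theorem small_vfam (t : List leechLattice) (ht : ∀ b ∈ t, sqNorm (b : GolayPt → ℤ) = 32) :
    ∀ v ∈ vfam D gs u t, sqNorm (v : GolayPt → ℤ) = 32 := by
  intro v hv
  simp only [vfam, List.mem_append, List.mem_flatMap, List.mem_map, List.mem_singleton] at hv
  rcases hv with ⟨b, hb, z, -, rfl⟩ | rfl
  · rw [co0_norm]; exact ht b hb
  · exact hu

theorem map_vfam {g : Co0} (hg : g • u = u) (hc : ∀ z ∈ D.zs, g * wordElt gs z = wordElt gs z * g)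
    (t : List leechLattice) : (vfam D gs u t).map (fun v => g • v) = vfam D gs u (t.map fun v => g • v) := by
  rw [vfam, vfam, List.map_append, List.map_flatMap, List.flatMap_map, List.map_singleton, hg]
  congr 1
  refine List.flatMap_congr fun b _ => ?_
  rw [List.map_map]
  exact List.map_congr_left fun z hz => by
    rw [Function.comp_apply, ← mul_smul, ← mul_smul, hc z hz]

include hM hx0 hu hX0 hU in
theorem eq_power_or_false {z : Co0} (hz : ∀ i (hi : i < D.zs.length), wordElt gs D.zs[i] = z ^ i)
    (hrels : relsOK D Ms X0 U = true) {g : Co0} (hg : g • u = u) (hzu : z • u = u) (hc : g * z = z * g)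
    (hleaf : leafOK D Ms U ((D.bs.map fun w => (enc ((wordElt gs w • x0 : leechLattice) : GolayPt → ℤ),
      enc ((g • wordElt gs w • x0 : leechLattice) : GolayPt → ℤ)))) = true) :
    ∃ i, g = z ^ i := by
  have hcz : ∀ w ∈ D.zs, g * wordElt gs w = wordElt gs w * g := fun w hw => by
    obtain ⟨i, hi, rfl⟩ := List.getElem_of_mem hw
    rw [hz i hi]
    exact (Commute.pow_right (show Commute g z from hc) i).eq
  set t := D.bs.map fun w => wordElt gs w • x0 with ht'
  have ht : ∀ b ∈ t, sqNorm (b : GolayPt → ℤ) = 32 := fun b hb => by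
    obtain ⟨w, -, rfl⟩ := List.mem_map.1 hb
    rw [co0_norm]; exact hx0
  have hcodes : D.codes Ms X0 = t.map fun b : leechLattice => enc (b : GolayPt → ℤ) := by
    rw [Data.codes, ht', List.map_map, ← hX0]
    exact List.map_congr_left fun w _ => walk_enc hM (by rw [hx0]; norm_num) w
  simp only [relsOK, hcodes, family_enc hM hU t ht, Bool.and_eq_true, List.all_eq_true, List.mem_range,
    beq_iff_eq, List.map_map, List.length_map] at hrels
  obtain ⟨⟨⟨hrefs, -⟩, hden⟩, hspan⟩ := hrels
  have hden' : 0 < D.den := Nat.le_of_ble_eq_true hden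
  have coord : ∀ (co : List ℤ) (j : ℕ), j < 24 →
      wsum co ((vfam D gs u t).map ((fun v => dig v j) ∘ fun b : leechLattice => enc (b : GolayPt → ℤ))) =
        (comb co (vfam D gs u t) : GolayPt → ℤ) (idxPt j) := fun co j hj => by
    rw [comb_apply]
    refine congrArg (wsum co) (List.map_congr_left fun v hv => ?_)
    exact dig_enc (small_of_norm (by rw [small_vfam hu t ht v hv]; norm_num)) hj
  simp only [leafOK, Bool.or_eq_true, List.any_eq_true, List.all_eq_true, List.forall_mem_map] at hleaf
  rcases hleaf with ⟨w, hw, hfix⟩ | ⟨r, hr, hne⟩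
  · obtain ⟨i, hi, rfl⟩ := List.getElem_of_mem hw
    refine ⟨i, ?_⟩
    have hzi : z ^ i • u = u := pow_mem (show z ∈ stabilizer Co0 u from hzu) i
    have hagree : ∀ v ∈ vfam D gs u t, g • v = z ^ i • v := by
      intro v hv
      simp only [vfam, List.mem_append, List.mem_flatMap, List.mem_map, List.mem_singleton] at hv
      rcases hv with ⟨b, hb, w, hw', rfl⟩ | rfl
      · obtain ⟨v, hv, rfl⟩ := List.mem_map.1 hb
        have h1 := Nat.eq_of_beq_eq_true (hfix v hv)
        rw [walk_enc hM (by rw [co0_norm, hx0]; norm_num), hz i hi] at h1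
        have h2 : z ^ i • wordElt gs v • x0 = g • wordElt gs v • x0 :=
          Subtype.ext (enc_inj (small_of_norm (by rw [co0_norm, co0_norm, hx0]; norm_num))
            (small_of_norm (by rw [co0_norm, co0_norm, hx0]; norm_num)) h1)
        obtain ⟨j, hj, rfl⟩ := List.getElem_of_mem hw'
        rw [hz j hj, ← mul_smul g, (Commute.pow_right (show Commute g z from hc) j).eq, mul_smul, ← h2, ← mul_smul,
          ← mul_smul, ← mul_smul, ← mul_smul, ← pow_add, ← pow_add, Nat.add_comm]
      · rw [hg, hzi]
    refine co0_ext fun q => ?_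
    obtain ⟨-, hrow⟩ := hspan (ptIdx q) (ptIdx_lt q)
    set co := D.span.getD (ptIdx q) []
    have hcomb : comb co (vfam D gs u t) = (D.den : ℤ) • eight q := by
      refine Subtype.ext (funext fun p => ?_)
      have h := hrow (ptIdx p) (ptIdx_lt p)
      rw [coord co _ (ptIdx_lt p), idxPt_ptIdx] at h
      rw [h, AddSubgroup.coe_zsmul, Pi.smul_apply, smul_eq_mul]
      congr 1
      show _ = (Pi.single q (8 : ℤ) : GolayPt → ℤ) p
      rcases eq_or_ne q p with rfl | hne
      · simp
      · rw [Pi.single_eq_of_ne (Ne.symm hne), if_neg fun e => hne (ptIdx_injective e)]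
    have h1 : (D.den : ℤ) • (g • eight q) = (D.den : ℤ) • (z ^ i • eight q) := by
      rw [← co0_zsmul, ← co0_zsmul, ← hcomb, smul_comb, smul_comb, List.map_congr_left hagree]
    refine Subtype.ext (funext fun p => ?_)
    have h2 := congrFun (congrArg Subtype.val h1) p
    simp only [AddSubgroup.coe_zsmul, Pi.smul_apply, smul_eq_mul] at h2
    exact mul_left_cancel₀ (by omega) h2
  · exfalso
    have h := hrefs r hr
    set S := wordElt gs r.2.1 • x0
    set R := wordElt gs r.2.2 • u
    have hS : sqNorm (S : GolayPt → ℤ) = 32 := by rw [co0_norm]; exact hx0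
    have hR : sqNorm (R : GolayPt → ℤ) = 32 := by rw [co0_norm]; exact hu
    have hcomb : comb r.1 (vfam D gs u t) = (D.den : ℤ) • S := by
      refine Subtype.ext (funext fun p => ?_)
      have h' := h.2 (ptIdx p) (ptIdx_lt p)
      rw [coord r.1 _ (ptIdx_lt p), idxPt_ptIdx, ← hX0, walk_enc hM (by rw [hx0]; norm_num),
        dig_enc (small_of_norm (by rw [hS]; norm_num)) (ptIdx_lt p), idxPt_ptIdx] at h'
      rw [h', AddSubgroup.coe_zsmul, Pi.smul_apply, smul_eq_mul]
    have himg : ∀ b : leechLattice, b ∈ t.map (fun b => g • b) → sqNorm (b : GolayPt → ℤ) = 32 := fun b hb => by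
      obtain ⟨b', hb', rfl⟩ := List.mem_map.1 hb
      rw [co0_norm]; exact ht b' hb'
    have e : ((D.bs.map fun w => (enc ((wordElt gs w • x0 : leechLattice) : GolayPt → ℤ),
        enc ((g • wordElt gs w • x0 : leechLattice) : GolayPt → ℤ))).map Prod.snd) =
        (t.map fun b => g • b).map fun b : leechLattice => enc (b : GolayPt → ℤ) := by
      simp [ht', List.map_map, Function.comp_def]
    rw [e, family_enc hM hU _ himg, List.map_map, ← map_vfam hg hcz] at hne
    have e2 : wsum r.1 (((vfam D gs u t).map fun v => g • v).map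
        ((fun v => dotC v (walk Ms U r.2.2)) ∘ fun b : leechLattice => enc (b : GolayPt → ℤ))) =
        (D.den : ℤ) * dotInt ((g • S : leechLattice) : GolayPt → ℤ) (R : GolayPt → ℤ) := by
      have hmap : ((vfam D gs u t).map fun v => g • v).map
          ((fun v => dotC v (walk Ms U r.2.2)) ∘ fun b : leechLattice => enc (b : GolayPt → ℤ)) =
          ((vfam D gs u t).map fun v => g • v).map
            fun v : leechLattice => dotInt (v : GolayPt → ℤ) (R : GolayPt → ℤ) := by
        refine List.map_congr_left fun v hv => ?_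
        obtain ⟨v', hv', rfl⟩ := List.mem_map.1 hv
        rw [Function.comp_apply, ← hU, walk_enc hM (by rw [hu]; norm_num)]
        exact dotC_enc (small_of_norm (by rw [co0_norm, small_vfam hu t ht v' hv']; norm_num))
          (small_of_norm (by rw [hR]; norm_num))
      rw [hmap, ← dot_comb, ← smul_comb, hcomb, co0_zsmul, dotInt, dotInt, Finset.mul_sum]
      refine Finset.sum_congr rfl fun p _ => ?_
      rw [AddSubgroup.coe_zsmul, Pi.smul_apply, smul_eq_mul]
      ring
    rw [e2] at hne
    obtain ⟨m, hm⟩ := dot_dvd (g • S).2 R.2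
    simp only [bne_iff_ne, ne_eq] at hne
    refine hne ?_
    rw [hm, show (D.den : ℤ) * (8 * m) = 8 * (D.den : ℤ) * m by ring]
    exact Int.mul_emod_right _ _

include hM hx0 hX0 in
theorem code_eq {i : ℕ} (hi : i < D.bs.length) :
    (D.codes Ms X0).getD i 0 = enc ((wordElt gs D.bs[i] • x0 : leechLattice) : GolayPt → ℤ) := by
  rw [List.getD_eq_getElem _ _ (by rw [Data.codes, List.length_map]; exact hi)]
  simp only [Data.codes, List.getElem_map, ← hX0]
  exact walk_enc hM (by rw [hx0]; norm_num) _

include hM hx0 hu hX0 hU in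
/-- The centraliser consists of the powers. -/
theorem cent_eq {z : Co0} (hz : ∀ i (hi : i < D.zs.length), wordElt gs D.zs[i] = z ^ i) (hzu : z • u = u)
    {C : List (ℕ × ℕ)} (hT : testsOK (plain [(u, 16)]) C = true) (hcands : candsOK D Ms X0 C = true)
    (hrels : relsOK D Ms X0 U = true) (hsearch : search D Ms U ((D.codes Ms X0).zip D.cands) [] = true) {g : Co0}
    (hg : g • u = u) (hc : g * z = z * g) : ∃ i, g = z ^ i := by
  simp only [candsOK, Bool.and_eq_true, Bool.or_eq_true, Bool.not_eq_true', List.all_eq_true, List.mem_range,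
    List.any_eq_true] at hcands
  obtain ⟨hlen, hcand⟩ := hcands
  have hlen' := Nat.eq_of_beq_eq_true hlen
  have hcz : ∀ w ∈ D.zs, g * wordElt gs w = wordElt gs w * g := fun w hw => by
    obtain ⟨i, hi, rfl⟩ := List.getElem_of_mem hw
    rw [hz i hi]
    exact (Commute.pow_right (show Commute g z from hc) i).eq
  let pair : List ℕ → ℕ × ℕ := fun w => (enc ((wordElt gs w • x0 : leechLattice) : GolayPt → ℤ),
      enc ((g • wordElt gs w • x0 : leechLattice) : GolayPt → ℤ))
  -- the images pass the tests
  have same : ∀ {a a' : leechLattice}, sqNorm (a : GolayPt → ℤ) = 32 → sqNorm (a' : GolayPt → ℤ) = 32 → ∀ w ∈ D.zs,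
      sameDot (enc ((g • a : leechLattice) : GolayPt → ℤ))
        (walk Ms (enc ((g • a' : leechLattice) : GolayPt → ℤ)) w) (enc (a : GolayPt → ℤ))
        (walk Ms (enc (a' : GolayPt → ℤ)) w) = true := by
    intro a a' ha ha' w hw
    rw [walk_enc hM (by rw [co0_norm, ha']; norm_num), walk_enc hM (by rw [ha']; norm_num), ← mul_smul,
      ← hcz w hw, mul_smul]
    exact sameDot_enc (small_of_norm (by rw [co0_norm, ha]; norm_num))
      (small_of_norm (by rw [co0_norm, co0_norm, ha']; norm_num)) (small_of_norm (by rw [ha]; norm_num))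
      (small_of_norm (by rw [co0_norm, ha']; norm_num)) (co0_dot g _ _)
  have hmem : ∀ i (hi : i < D.bs.length), (pair D.bs[i]).2 ∈ D.cands.getD i [] := by
    intro i hi
    obtain ⟨e, c, hc', hb⟩ := hcand i hi
    rw [code_eq hM hx0 hX0 hi] at e hb
    have hin : (pair D.bs[i]).2 ∈ chosen C := by
      refine (mem_chosen_iff hT).2 ⟨g • wordElt gs D.bs[i] • x0, ?_, rfl⟩
      obtain ⟨y, hy, ey⟩ := (mem_chosen_iff hT).1 hc'
      have : y = wordElt gs D.bs[i] • x0 := Subtype.ext (enc_inj (small_of_norm (by rw [hy.1]; norm_num))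
        (small_of_norm (by rw [co0_norm, hx0]; norm_num)) (ey.trans (Nat.eq_of_beq_eq_true hb).symm))
      subst this
      rw [← pickL_eq] at hy ⊢
      exact smul_mem_pickL (g := g) (fun t ht => by rw [List.mem_singleton.1 ht]; exact hg) hy
    rcases e _ hin with h | ⟨c', hc'', hbeq⟩
    · exfalso
      rw [selfOK, List.all_eq_false] at h
      obtain ⟨w, hw, hno⟩ := h
      exact hno (same (by rw [co0_norm, hx0]) (by rw [co0_norm, hx0]) w hw)
    · rwa [Nat.eq_of_beq_eq_true hbeq]
  -- the search reaches the leaf
  have main : ∀ (n k : ℕ), k + n = D.bs.length →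
      search D Ms U (((D.codes Ms X0).zip D.cands).drop k) ((D.bs.take k).map pair) = true →
      leafOK D Ms U (D.bs.map pair) = true := by
    intro n
    induction n with
    | zero =>
      intro k hk h
      rw [List.drop_eq_nil_of_le (by rw [List.length_zip, Data.codes, List.length_map]; omega),
        List.take_of_length_le (by omega), search] at h
      exact h
    | succ n ih =>
      intro k hk h
      have hk' : k < D.bs.length := by omega
      have hkz : k < ((D.codes Ms X0).zip D.cands).length := by
        rw [List.length_zip, Data.codes, List.length_map]; omega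
      rw [List.drop_eq_getElem_cons hkz, List.getElem_zip, search] at h
      simp only [List.all_eq_true, Bool.or_eq_true, Bool.not_eq_true'] at h
      have hb : (D.codes Ms X0)[k]'(by rw [Data.codes, List.length_map]; omega) = (pair D.bs[k]).1 :=
        ((List.getD_eq_getElem _ 0 _).symm.trans (code_eq hM hx0 hX0 hk'))
      have hc' : (pair D.bs[k]).2 ∈ D.cands[k]'(by omega) := by
        have := hmem k hk'
        rwa [List.getD_eq_getElem _ _ (by omega)] at this
      rcases h _ hc' with hx | hx
      · exfalso
        rw [List.all_eq_false] at hx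
        obtain ⟨p, hp, hno⟩ := hx
        obtain ⟨w, -, rfl⟩ := List.mem_map.1 hp
        refine hno ?_
        simp only [crossOK, hb, List.all_eq_true]
        exact fun w' hw' => same (by rw [co0_norm, hx0]) (by rw [co0_norm, hx0]) w' hw'
      · refine ih (k + 1) (by omega) ?_
        rw [hb] at hx
        rw [← List.take_concat_get' _ _ hk', List.map_append, List.map_singleton]
        exact hx
  exact eq_power_or_false hM hx0 hu hX0 hU hz hrels hg hzu hc (main D.bs.length 0 (by omega) hsearch)

end Main

end CfsgLib.Spor.SchurCert.CentCheck
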