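import Cfsg.Agent.Lib.Spor.SchurCert.Rewrite

/-!
A certificate bounding the part of a central kernel inside the derived subgroup of the preimage of a
subgroup with a polycyclic sequence: unknown tails of its relations, linear relations among them from
overlaps and from conjugations in the whole group, and a change of lifts.
-/

set_option autoImplicit false

namespace CfsgLib.Spor.SchurCert

open Subgroup
open scoped IsMulCommutative commutatorElement

/-- A relation among tails coming from one conjugation: indices of its pairs and four normalisations. -/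
structure Fuse where
  f : ℕ
  l : List ℕ
  r : List ℕ
  sa : List (ℕ × ℕ)
  sb : List (ℕ × ℕ)
  sc : List (ℕ × ℕ)
  sd : List (ℕ × ℕ)

/-- The data. -/
structure Cert where
  p : ℕ
  m : ℕ
  N : ℕ
  /-- Powers first, then commutations. -/
  rules : List (List ℕ × List ℕ)
  /-- For each conjugating element, pairs of words with their images. -/
  maps : List (List (List ℕ × List ℕ))
  overlaps : List (List ℕ × List (ℕ × ℕ) × List (ℕ × ℕ))
  fuses : List Fuse
  /-- The change of each lift. -/
  adj : List Form
  /-- What may remain, with orders and the derivations of these orders. -/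
  base : List (Form × ℕ × List (ℕ × ℕ))
  /-- For each rule, what remains of its tail and a derivation. -/
  tgt : List (List (ℕ × ℕ) × List (ℕ × ℕ))
  /-- The relations as dense vectors. -/
  dense : List (List ℕ)

variable (C : Cert)

/-- The number of unknowns. -/
def Cert.nv : ℕ := C.rules.length + C.maps.length * C.m

/-- The pairs of one conjugation. -/
def Cert.pairs (f : ℕ) : List (List ℕ × List ℕ) := C.maps.getD f []

/-- The sources or images of listed pairs. -/
def Cert.src (f : ℕ) (l : List ℕ) : List ℕ := (l.map fun i => ((C.pairs f).getD i ([], [])).1).flatten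

/-- The images of listed pairs. -/
def Cert.img (f : ℕ) (l : List ℕ) : List ℕ := (l.map fun i => ((C.pairs f).getD i ([], [])).2).flatten

/-- The unknowns of listed pairs. -/
def Cert.uform (f : ℕ) (l : List ℕ) : Form := l.map fun i => (C.rules.length + f * C.m + i, 1)

/-- The relation of an overlap. -/
def Cert.ovEq (o : List ℕ × List (ℕ × ℕ) × List (ℕ × ℕ)) : Form × Form :=
  match runW C.rules o.1 o.2.1, runW C.rules o.1 o.2.2 with
  | some (n1, f1), some (n2, f2) => if n1 == n2 then (f1, f2) else ([], [])
  | _, _ => ([], [])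

/-- The relation of a conjugation. -/
def Cert.fuEq (e : Fuse) : Form × Form :=
  match runW C.rules (C.src e.f e.l) e.sa, runW C.rules (C.src e.f e.r) e.sb, runW C.rules (C.img e.f e.l) e.sc,
      runW C.rules (C.img e.f e.r) e.sd with
  | some (na, fa), some (nb, fb), some (nc, fc), some (nd, fd) =>
    if na == nb && nc == nd && Nat.blt e.f C.maps.length &&
        ((e.l ++ e.r).all fun i => Nat.blt i (C.pairs e.f).length) then
      (fa ++ fd ++ C.uform e.f e.r, fb ++ fc ++ C.uform e.f e.l)
    else ([], [])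
  | _, _, _, _ => ([], [])

/-- All relations. -/
def Cert.eqs : List (Form × Form) := C.overlaps.map C.ovEq ++ C.fuses.map C.fuEq

/-- The change along a word. -/
def Cert.adjW (w : List ℕ) : Form := (w.map fun i => C.adj.getD i []).flatten

/-- A combination of what may remain. -/
def Cert.baseComb (c : List (ℕ × ℕ)) : Form :=
  (c.map fun t => scale t.2 (C.base.getD t.1 ([], 0, [])).1).flatten

/-- The shape of the relations. -/
def Cert.shapeOK : Bool :=
  Nat.blt 0 C.p && (C.maps.all fun M => Nat.ble M.length C.m) &&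
  (List.range C.m).all fun i =>
    Nat.blt i C.rules.length && (C.rules.getD i ([], [])).1 == List.replicate C.p i &&
    ((C.rules.getD i ([], [])).2.all fun a => Nat.blt i a && Nat.blt a C.m) &&
    ((List.range C.m).all fun j =>
      !Nat.blt i j ||
        (let q := C.m + j * (j - 1) / 2 + i
         Nat.blt q C.rules.length && (C.rules.getD q ([], [])).1 == [j, i] &&
          ((C.rules.getD q ([], [])).2.take 1 == [i]) &&
          ((C.rules.getD q ([], [])).2.drop 1).all fun a => Nat.blt i a && Nat.blt a C.m))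

/-- Relations agree with dense vectors, entry by entry. -/
def Cert.denseAll : List (Form × Form) → List (List ℕ) → Bool
  | e :: es, d :: ds => denseEq C.N C.nv e.1 e.2 d && Cert.denseAll es ds
  | [], [] => true
  | _, _ => false

/-- The linear checks. -/
def Cert.linOK : Bool :=
  C.denseAll C.eqs C.dense &&
  ((List.range C.rules.length).all fun r =>
    (((C.tgt.getD r ([], [])).1.all fun t => Nat.blt t.1 C.base.length) &&
    denseEq C.N C.nv ((r, 1) :: C.adjW (C.rules.getD r ([], [])).1)
      (C.adjW (C.rules.getD r ([], [])).2 ++ C.baseComb (C.tgt.getD r ([], [])).1)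
      (combineD C.dense (C.tgt.getD r ([], [])).2))) &&
  C.base.all fun b => Nat.blt 0 b.2.1 && denseEq C.N C.nv (scale b.2.1 b.1) [] (combineD C.dense b.2.2)

/-- The product of the orders of what may remain. -/
def Cert.bound : ℕ := (C.base.map fun b => b.2.1).prod

section Sup

variable {X : Type*} [Group X] [Finite X]

theorem card_sup_zpowers_le {W : Subgroup X} {x : X} {e : ℕ} (he : 0 < e)
    (hx : ∀ w ∈ W, x⁻¹ * w * x ∈ W) (hp : x ^ e ∈ W) :
    Nat.card (W ⊔ zpowers x : Subgroup X) ≤ e * Nat.card W := by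
  have hn : x ∈ normalizer (W : Set X) := by
    have hle : W.map (MulAut.conj x⁻¹).toMonoidHom ≤ W := by
      rintro _ ⟨w, hw, rfl⟩
      simpa using hx w hw
    have heq := Subgroup.eq_of_le_of_card_ge hle
      (Nat.card_congr (Subgroup.equivMapOfInjective _ _ (MulAut.conj x⁻¹).injective).toEquiv).le
    rw [mem_normalizer_iff]
    intro w
    constructor
    · intro hw
      rw [← heq] at hw
      obtain ⟨v, hv, rfl⟩ := hw
      simpa [mul_assoc] using hv
    · intro hw
      simpa [mul_assoc] using hx _ hw
  have hle : zpowers x ≤ normalizer (W : Set X) := zpowers_le.2 hn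
  let f : Fin e × W → (W ⊔ zpowers x : Subgroup X) := fun q =>
    ⟨x ^ (q.1 : ℕ) * q.2, mul_mem (pow_mem (mem_sup_right (mem_zpowers x)) _) (mem_sup_left q.2.2)⟩
  have hf : Function.Surjective f := by
    rintro ⟨v, hv⟩
    rw [sup_comm] at hv
    have hv' : v ∈ ((zpowers x ⊔ W : Subgroup X) : Set X) := hv
    rw [coe_mul_of_left_le_normalizer_right _ _ hle] at hv'
    obtain ⟨a, ha, w, hw, rfl⟩ := hv'
    obtain ⟨k, rfl⟩ := mem_zpowers_iff.1 ha
    have hlt : (k % (e : ℤ)).toNat < e := by
      have := Int.emod_lt_of_pos k (show (0 : ℤ) < e by omega)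
      have := Int.emod_nonneg k (show (e : ℤ) ≠ 0 by omega)
      omega
    refine ⟨(⟨(k % (e : ℤ)).toNat, hlt⟩, ⟨(x ^ e) ^ (k / (e : ℤ)) * w, mul_mem (zpow_mem hp _) hw⟩), Subtype.ext ?_⟩
    show x ^ ((k % (e : ℤ)).toNat) * ((x ^ e) ^ (k / (e : ℤ)) * w) = x ^ k * w
    rw [← mul_assoc, ← zpow_natCast x e, ← zpow_natCast x _, ← zpow_mul, ← zpow_add,
      Int.toNat_of_nonneg (Int.emod_nonneg k (show (e : ℤ) ≠ 0 by omega)), Int.emod_add_mul_ediv]
  have := Nat.card_le_card_of_surjective f hf
  rwa [Nat.card_prod, Nat.card_fin] at this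

end Sup

variable {Δ : Type*} [Group Δ] [Finite Δ] {G : Type*} [Group G]

theorem wv_map (τ : Δ →* G) (x : ℕ → Δ) (w : List ℕ) : τ (wv x w) = wv (fun i => τ (x i)) w := by
  induction w with
  | nil => simp
  | cons a w ih => simp [wv_cons, ih]

theorem wv_mul_central (x : ℕ → Δ) (a : ℕ → Subgroup.center Δ) : ∀ w : List ℕ,
    wv (fun i => x i * (a i : Δ)) w = wv x w * (((w.map a).prod : Subgroup.center Δ) : Δ)
  | [] => by simp
  | b :: w => by
    rw [wv_cons, wv_cons, wv_mul_central x a w, List.map_cons, List.prod_cons, Subgroup.coe_mul]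
    have hc := fun y : Δ => Subgroup.mem_center_iff.1 (a b).2 y
    simp only [mul_assoc]
    congr 1
    rw [← mul_assoc, ← hc, mul_assoc]

theorem conj_flatten (x : ℕ → Δ) {g : Δ} {P : List (List ℕ × List ℕ)} {u : ℕ → Subgroup.center Δ}
    (h : ∀ i, i < P.length → g * wv x (P.getD i ([], [])).1 * g⁻¹ = wv x (P.getD i ([], [])).2 * (u i : Δ)) :
    ∀ l : List ℕ, (∀ i ∈ l, i < P.length) →
      g * wv x ((l.map fun i => (P.getD i ([], [])).1).flatten) * g⁻¹ =
        wv x ((l.map fun i => (P.getD i ([], [])).2).flatten) * (((l.map u).prod : Subgroup.center Δ) : Δ)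
  | [], _ => by simp
  | i :: l, hl => by
    have ih := conj_flatten x h l fun j hj => hl j (List.mem_cons_of_mem _ hj)
    have hi := h i (hl i (by simp))
    simp only [List.map_cons, List.flatten_cons, wv_append, List.prod_cons, Subgroup.coe_mul]
    set A := wv x (P.getD i ([], [])).1
    set A' := wv x (P.getD i ([], [])).2
    have hc := fun y : Δ => Subgroup.mem_center_iff.1 (u i).2 y
    calc g * (A * wv x ((l.map fun i => (P.getD i ([], [])).1).flatten)) * g⁻¹
        = (g * A * g⁻¹) * (g * wv x ((l.map fun i => (P.getD i ([], [])).1).flatten) * g⁻¹) := by group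
      _ = _ := by
        rw [hi, ih]
        simp only [mul_assoc]
        congr 1
        rw [← mul_assoc, ← hc, mul_assoc]

theorem comm_solve {A : Type*} [CommGroup A] {a b c d u v : A} (k : c * u * a⁻¹ * b = d * v) :
    a * d * v = b * c * u := by
  rw [mul_assoc a d v, ← k, mul_comm a, mul_assoc (c * u * a⁻¹) b a, mul_comm b a, ← mul_assoc,
    inv_mul_cancel_right, mul_comm (c * u) b, mul_assoc]

/-- The bound on the subgroup generated by the changed lifts and what may remain. -/
theorem segment_bound (hp' : 0 < C.p) (x' : ℕ → Δ) (B : Subgroup Δ) (hBc : ∀ b ∈ B, ∀ d, d * b = b * d)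
    (hsh : ∀ i < C.m, ((Nat.blt i C.rules.length = true ∧ (C.rules.getD i ([], [])).1 = List.replicate C.p i) ∧
      ∀ a ∈ (C.rules.getD i ([], [])).2, Nat.blt i a = true ∧ Nat.blt a C.m = true) ∧
      ∀ j < C.m, Nat.blt i j = false ∨
        ((Nat.blt (C.m + j * (j - 1) / 2 + i) C.rules.length = true ∧
            (C.rules.getD (C.m + j * (j - 1) / 2 + i) ([], [])).1 = [j, i]) ∧
          List.take 1 (C.rules.getD (C.m + j * (j - 1) / 2 + i) ([], [])).2 = [i]) ∧
        ∀ a ∈ List.drop 1 (C.rules.getD (C.m + j * (j - 1) / 2 + i) ([], [])).2,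
          Nat.blt i a = true ∧ Nat.blt a C.m = true)
    (hr' : ∀ r, r < C.rules.length → ∃ b ∈ B,
      wv x' (C.rules.getD r ([], [])).1 = wv x' (C.rules.getD r ([], [])).2 * b) :
    Nat.card (B ⊔ closure (x' '' {j | j < C.m}) : Subgroup Δ) ≤ C.p ^ C.m * Nat.card B ∧
      B ≤ B ⊔ closure (x' '' {j | j < C.m}) := by
  refine ⟨?_, le_sup_left⟩
  -- the subgroups generated by final segments of the lifts
  let W : ℕ → Subgroup Δ := fun i => B ⊔ closure (x' '' {j | i ≤ j ∧ j < C.m})
  have hxW : ∀ i j, i ≤ j → j < C.m → x' j ∈ W i := fun i j h1 h2 =>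
    mem_sup_right (subset_closure ⟨j, ⟨h1, h2⟩, rfl⟩)
  have hwW : ∀ i (w : List ℕ), (∀ c ∈ w, i ≤ c ∧ c < C.m) → wv x' w ∈ W i := fun i w hw =>
    list_prod_mem fun d hd => by
      obtain ⟨c, hc, rfl⟩ := List.mem_map.1 hd
      exact hxW i c (hw c hc).1 (hw c hc).2
  have hstep : ∀ i, i < C.m → Nat.card (W i) ≤ C.p * Nat.card (W (i + 1)) := by
    intro i hi
    obtain ⟨⟨⟨hil, hlhs⟩, hrhs⟩, hcomm⟩ := hsh i hi
    have hWi : W i = W (i + 1) ⊔ zpowers (x' i) := by
      simp only [W, sup_assoc, zpowers_eq_closure, ← Subgroup.closure_union]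
      congr 2
      rw [Set.union_singleton, ← Set.image_insert_eq]
      congr 1
      ext j
      simp only [Set.mem_setOf_eq, Set.mem_insert_iff]
      omega
    rw [hWi]
    refine card_sup_zpowers_le hp' (fun w hw => ?_) ?_
    · have hle : W (i + 1) ≤ (W (i + 1)).comap (MulAut.conj (x' i)⁻¹).toMonoidHom := by
        refine sup_le (fun b hb => ?_) ((closure_le _).2 ?_)
        · simp only [mem_comap, MulEquiv.coe_toMonoidHom, MulAut.conj_apply, inv_inv]
          rw [mul_assoc, ← hBc b hb, inv_mul_cancel_left]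
          exact mem_sup_left hb
        · rintro _ ⟨j, ⟨hij, hjm⟩, rfl⟩
          simp only [SetLike.mem_coe, mem_comap, MulEquiv.coe_toMonoidHom, MulAut.conj_apply, inv_inv]
          have hj := hcomm j hjm
          rcases hj with hj | hj
          · exact absurd (Nat.ble_eq_true_of_le (show i + 1 ≤ j from hij)) (by rw [Nat.blt] at hj; simp [hj])
          · obtain ⟨⟨⟨hq, hql⟩, hqt⟩, hqd⟩ := hj
            obtain ⟨b, hb, e⟩ := hr' _ (Nat.le_of_ble_eq_true hq)
            set R := (C.rules.getD (C.m + j * (j - 1) / 2 + i) ([], [])).2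
            rw [hql, show R = [i] ++ R.drop 1 by rw [← hqt, List.take_append_drop], wv_append] at e
            simp only [wv_cons, wv_nil, mul_one] at e
            rw [mul_assoc, e, ← mul_assoc, ← mul_assoc, inv_mul_cancel, one_mul]
            refine mul_mem (hwW _ _ fun c hc => ⟨Nat.le_of_ble_eq_true (hqd c hc).1,
              Nat.le_of_ble_eq_true (hqd c hc).2⟩) (mem_sup_left hb)
      simpa using hle hw
    · obtain ⟨b, hb, e⟩ := hr' i (Nat.le_of_ble_eq_true hil)
      rw [hlhs, wv_replicate] at e
      rw [e]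
      exact mul_mem (hwW _ _ fun c hc => ⟨Nat.le_of_ble_eq_true (hrhs c hc).1,
        Nat.le_of_ble_eq_true (hrhs c hc).2⟩) (mem_sup_left hb)
  have hWcard : ∀ k, k ≤ C.m → Nat.card (W (C.m - k)) ≤ C.p ^ k * Nat.card B := by
    intro k
    induction k with
    | zero =>
      intro _
      have : W C.m = B := by
        have h0 : {j : ℕ | C.m ≤ j ∧ j < C.m} = ∅ := Set.eq_empty_of_forall_notMem fun j hj => by
          simp only [Set.mem_setOf_eq] at hj; omega
        simp [W, h0]
      simp [this]
    | succ k ih =>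
      intro hk
      have := hstep (C.m - (k + 1)) (by omega)
      rw [show C.m - (k + 1) + 1 = C.m - k by omega] at this
      refine this.trans ?_
      rw [pow_succ', mul_assoc]
      exact Nat.mul_le_mul_left _ (ih (by omega))
  have e0 : W 0 = B ⊔ closure (x' '' {j | j < C.m}) := by simp [W]
  rw [← e0]
  simpa using hWcard C.m le_rfl

theorem comm_central {X : Type*} [Group X] {k l : X} (hk : k ∈ center X) (hl : l ∈ center X) (s t : X) :
    s * k * (t * l) * (s * k)⁻¹ * (t * l)⁻¹ = s * t * s⁻¹ * t⁻¹ := by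
  have ck := mem_center_iff.1 hk
  have cl := mem_center_iff.1 hl
  calc s * k * (t * l) * (s * k)⁻¹ * (t * l)⁻¹
      = s * (k * t) * (l * k⁻¹ * s⁻¹) * (l⁻¹ * t⁻¹) := by group
    _ = s * (t * k) * (k⁻¹ * s⁻¹ * l) * (l⁻¹ * t⁻¹) := by rw [ck t, mul_assoc l, ← cl (k⁻¹ * s⁻¹)]
    _ = _ := by group

theorem denseAll_spec {A : Type*} [CommGroup A] (z : ℕ → A) (hN : ∀ i, z i ^ C.N = 1) :
    ∀ {es : List (Form × Form)} {ds : List (List ℕ)}, C.denseAll es ds = true →
      (∀ e ∈ es, fev z e.1 = fev z e.2) → ∀ d ∈ ds, dval z C.nv d = 1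
  | [], [], _, _, d, hd => absurd hd List.not_mem_nil
  | [], _ :: _, h, _, _, _ => by simp [Cert.denseAll] at h
  | _ :: _, [], h, _, _, _ => by simp [Cert.denseAll] at h
  | e :: es, d0 :: ds, h, he, d, hd => by
    simp only [Cert.denseAll, Bool.and_eq_true] at h
    rcases List.mem_cons.1 hd with rfl | hd
    · have e1 := fev_of_denseEq z hN h.1
      rw [he e List.mem_cons_self] at e1
      exact mul_left_cancel (e1.symm.trans (mul_one _).symm)
    · exact denseAll_spec z hN h.2 (fun e' he' => he e' (List.mem_cons_of_mem _ he')) d hd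

/-- The bound: kernel elements in the derived subgroup of the preimage lie in a small subgroup. -/
theorem kernel_bound (τ : Δ →* G) (hsur : Function.Surjective τ) (hcen : τ.ker ≤ center Δ)
    (hN : ∀ k ∈ τ.ker, k ^ C.N = 1) (γ : ℕ → G) (conj : ℕ → G)
    (hrules : ∀ r, r < C.rules.length → wv γ (C.rules.getD r ([], [])).1 = wv γ (C.rules.getD r ([], [])).2)
    (hmaps : ∀ f, f < C.maps.length → ∀ i, i < (C.pairs f).length →
      conj f * wv γ ((C.pairs f).getD i ([], [])).1 * (conj f)⁻¹ = wv γ ((C.pairs f).getD i ([], [])).2)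
    (hshape : C.shapeOK = true) (hlin : C.linOK = true)
    (hcard : C.p ^ C.m ≤ Nat.card (closure (γ '' {i | i < C.m}) : Subgroup G)) :
    ∃ B : Subgroup Δ, Nat.card B ≤ C.bound ∧
      ⁅(closure (γ '' {i | i < C.m})).comap τ, (closure (γ '' {i | i < C.m})).comap τ⁆ ⊓ τ.ker ≤ B := by
  classical
  choose x hx using fun i => hsur (γ i)
  choose cg hcg using fun f => hsur (conj f)
  have hxw : ∀ w, τ (wv x w) = wv γ w := fun w => by rw [wv_map]; simp only [hx]
  simp only [Cert.shapeOK, Bool.and_eq_true, List.all_eq_true, List.mem_range, Bool.or_eq_true,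
    Bool.not_eq_true', beq_iff_eq] at hshape
  obtain ⟨⟨hp, hmlen⟩, hsh⟩ := hshape
  have hp' : 0 < C.p := Nat.le_of_ble_eq_true hp
  -- the unknowns
  let zv : ℕ → Δ := fun v =>
    if v < C.rules.length then (wv x (C.rules.getD v ([], [])).2)⁻¹ * wv x (C.rules.getD v ([], [])).1
    else
      let f := (v - C.rules.length) / C.m
      let P := (C.pairs f).getD ((v - C.rules.length) % C.m) ([], [])
      if f < C.maps.length ∧ (v - C.rules.length) % C.m < (C.pairs f).length then
        (wv x P.2)⁻¹ * (cg f * wv x P.1 * (cg f)⁻¹)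
      else 1
  have hzker : ∀ v, zv v ∈ τ.ker := fun v => by
    simp only [zv]
    split_ifs with h1 h2
    · rw [MonoidHom.mem_ker, map_mul, map_inv, hxw, hxw, hrules v h1, inv_mul_cancel]
    · rw [MonoidHom.mem_ker, map_mul, map_inv, map_mul, map_mul, map_inv, hxw, hxw, hcg,
        hmaps _ h2.1 _ h2.2, inv_mul_cancel]
    · exact one_mem _
  let z : ℕ → center Δ := fun v => ⟨zv v, hcen (hzker v)⟩
  have hzN : ∀ v, z v ^ C.N = 1 := fun v => Subtype.ext (by simp [z, hN _ (hzker v)])
  have hr : ∀ r, r < C.rules.length →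
      wv x (C.rules.getD r ([], [])).1 = wv x (C.rules.getD r ([], [])).2 * (z r : Δ) := fun r hr => by
    simp only [z, zv, if_pos hr, mul_inv_cancel_left]
  have hu : ∀ f, f < C.maps.length → ∀ i, i < (C.pairs f).length →
      cg f * wv x ((C.pairs f).getD i ([], [])).1 * (cg f)⁻¹ =
        wv x ((C.pairs f).getD i ([], [])).2 * (z (C.rules.length + f * C.m + i) : Δ) := fun f hf i hi => by
    have hiM : i < C.m := lt_of_lt_of_le hi
      (Nat.le_of_ble_eq_true (hmlen _ (by rw [Cert.pairs, List.getD_eq_getElem _ _ hf]; exact List.getElem_mem hf)))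
    have e1 : (C.rules.length + f * C.m + i - C.rules.length) / C.m = f := by
      rw [Nat.add_assoc, Nat.add_sub_cancel_left, Nat.mul_comm f, Nat.mul_add_div (by omega),
        Nat.div_eq_of_lt hiM, Nat.add_zero]
    have e2 : (C.rules.length + f * C.m + i - C.rules.length) % C.m = i := by
      rw [Nat.add_assoc, Nat.add_sub_cancel_left, Nat.mul_comm f, Nat.mul_add_mod, Nat.mod_eq_of_lt hiM]
    simp only [z, zv, if_neg (show ¬ C.rules.length + f * C.m + i < C.rules.length by omega), e1, e2,
      if_pos (And.intro hf hi), mul_inv_cancel_left]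
  -- every relation holds
  have heqs : ∀ e ∈ C.eqs, fev z e.1 = fev z e.2 := by
    intro e he
    simp only [Cert.eqs, List.mem_append, List.mem_map] at he
    rcases he with ⟨o, -, rfl⟩ | ⟨e, -, rfl⟩
    · simp only [Cert.ovEq]
      split
      next n1 f1 n2 f2 h1 h2 =>
        split_ifs with hn
        · have a1 := wv_runW hr h1
          have a2 := wv_runW hr h2
          rw [beq_iff_eq] at hn
          subst hn
          exact Subtype.ext (mul_left_cancel (a1.symm.trans a2))
        · rfl
      next => rfl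
    · simp only [Cert.fuEq]
      split
      next na fa nb fb nc fc nd fd h1 h2 h3 h4 =>
        split_ifs with hn
        · simp only [Bool.and_eq_true, beq_iff_eq, List.all_eq_true, List.mem_append] at hn
          obtain ⟨⟨⟨hab, hcd⟩, hf⟩, hidx⟩ := hn
          have hf' : e.f < C.maps.length := Nat.le_of_ble_eq_true hf
          have cl := conj_flatten x (hu e.f hf') e.l fun i hi => Nat.le_of_ble_eq_true (hidx i (Or.inl hi))
          have cr := conj_flatten x (hu e.f hf') e.r fun i hi => Nat.le_of_ble_eq_true (hidx i (Or.inr hi))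
          simp only [Cert.src, Cert.img] at h1 h2 h3 h4
          rw [wv_runW hr h1, wv_runW hr h3, hab, hcd] at cl
          rw [wv_runW hr h2, wv_runW hr h4] at cr
          have hform : ∀ l : List ℕ, fev z (C.uform e.f l) =
              (l.map fun i => z (C.rules.length + e.f * C.m + i)).prod := fun l => by
            simp [Cert.uform, fev, List.map_map, Function.comp_def]
          rw [fev_append, fev_append, fev_append, fev_append, hform, hform]
          set ul := (e.l.map fun i => z (C.rules.length + e.f * C.m + i)).prod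
          set ur := (e.r.map fun i => z (C.rules.length + e.f * C.m + i)).prod
          set Pn := wv x nb
          set Qn := wv x nd
          set g := cg e.f
          have hA : ∀ a : center Δ, g * (Pn * (a : Δ)) * g⁻¹ = g * Pn * g⁻¹ * (a : Δ) := fun a => by
            have hc := fun y : Δ => Subgroup.mem_center_iff.1 a.2 y
            simp only [mul_assoc]
            congr 2
            exact (hc g⁻¹).symm
          rw [hA] at cl cr
          have k : fev z fc * ul * (fev z fa)⁻¹ * fev z fb = fev z fd * ur := by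
            refine Subtype.ext (mul_left_cancel (a := Qn) ?_)
            calc Qn * (((fev z fc * ul * (fev z fa)⁻¹ * fev z fb : center Δ)) : Δ)
                = Qn * (fev z fc : center Δ) * (ul : Δ) * ((fev z fa : center Δ) : Δ)⁻¹ * (fev z fb : center Δ) := by
                  simp only [Subgroup.coe_mul, Subgroup.coe_inv, mul_assoc]
              _ = g * Pn * g⁻¹ * (fev z fb : center Δ) := by rw [← cl, mul_inv_cancel_right]
              _ = _ := by rw [cr]; simp only [Subgroup.coe_mul, mul_assoc]
          exact comm_solve k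
        · rfl
      next => rfl
  -- changed lifts and what may remain
  let a : ℕ → center Δ := fun i => fev z (C.adj.getD i [])
  let x' : ℕ → Δ := fun i => x i * (a i : Δ)
  let bl : List (center Δ × ℕ) := C.base.map fun b => (fev z b.1, b.2.1)
  let B : Subgroup Δ := closure {d | ∃ t ∈ bl, d = (t.1 : Δ)}
  have hzv : ∀ L : Form, ((fev z L : center Δ) : Δ) ∈ τ.ker := by
    intro L
    induction L with
    | nil => simp
    | cons t L ih =>
      rw [fev_cons, Subgroup.coe_mul, SubmonoidClass.coe_pow]
      exact mul_mem (pow_mem (hzker t.1) _) ih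
  have hBker : B ≤ τ.ker := by
    rw [closure_le]
    rintro _ ⟨t, ht, rfl⟩
    simp only [bl, List.mem_map] at ht
    obtain ⟨b, -, rfl⟩ := ht
    exact hzv b.1
  have hτx' : ∀ i, τ (x' i) = γ i := fun i => by
    simp only [x', a, map_mul, hx, MonoidHom.mem_ker.1 (hzv _), mul_one]
  simp only [Cert.linOK, Bool.and_eq_true, List.all_eq_true, List.mem_range] at hlin
  obtain ⟨⟨hdense, htgt⟩, hord⟩ := hlin
  have hD : ∀ d ∈ C.dense, dval z C.nv d = 1 := denseAll_spec C z hzN hdense heqs
  have hadjW : ∀ w : List ℕ, fev z (C.adjW w) = (w.map a).prod := by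
    intro w
    induction w with
    | nil => rfl
    | cons c w ih =>
      rw [Cert.adjW] at ih ⊢
      rw [List.map_cons, List.flatten_cons, fev_append, ih, List.map_cons, List.prod_cons]
  have hcomb : ∀ c : List (ℕ × ℕ), (∀ t ∈ c, t.1 < C.base.length) →
      ((fev z (C.baseComb c) : center Δ) : Δ) ∈ B := by
    intro c hc
    induction c with
    | nil => exact one_mem _
    | cons t c ih =>
      have ih' := ih fun s hs => hc s (List.mem_cons_of_mem _ hs)
      simp only [Cert.baseComb] at ih' ⊢
      rw [List.map_cons, List.flatten_cons, fev_append, fev_scale, Subgroup.coe_mul, SubmonoidClass.coe_pow]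
      refine mul_mem (pow_mem (subset_closure ?_) _) ih'
      have ht := hc t (by simp)
      exact ⟨(fev z (C.base[t.1]).1, (C.base[t.1]).2.1), List.mem_map_of_mem (List.getElem_mem ht),
        by rw [List.getD_eq_getElem _ _ ht]⟩
  have hr' : ∀ r, r < C.rules.length → ∃ b ∈ B,
      wv x' (C.rules.getD r ([], [])).1 = wv x' (C.rules.getD r ([], [])).2 * b := by
    intro r hr0
    obtain ⟨hidx, hder⟩ := htgt r hr0
    refine ⟨_, hcomb (C.tgt.getD r ([], [])).1 fun t ht => Nat.le_of_ble_eq_true (hidx t ht), ?_⟩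
    have e := fev_of_denseEq z hzN hder
    rw [dval_combineD z hD, mul_one] at e
    rw [fev_cons, pow_one, fev_append, hadjW, hadjW] at e
    rw [wv_mul_central x a, wv_mul_central x a, hr r hr0]
    rw [mul_assoc, ← Subgroup.coe_mul, e, Subgroup.coe_mul, mul_assoc]
  have hBbound : Nat.card B ≤ C.bound := by
    have key : ∀ L : List (center Δ × ℕ), (∀ t ∈ L, 0 < t.2 ∧ t.1 ^ t.2 = 1) →
        Nat.card (closure {d : Δ | ∃ t ∈ L, d = (t.1 : Δ)} : Subgroup Δ) ≤ (L.map Prod.snd).prod := by
      intro L
      induction L with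
      | nil =>
        intro _
        simp
      | cons t L ih =>
        intro h
        have hs : {d : Δ | ∃ s ∈ t :: L, d = (s.1 : Δ)} =
            {d : Δ | ∃ s ∈ L, d = (s.1 : Δ)} ∪ {(t.1 : Δ)} := by
          ext d; simp [or_comm]
        rw [hs, Subgroup.closure_union, ← zpowers_eq_closure, List.map_cons, List.prod_cons]
        refine (card_sup_zpowers_le (h t (by simp)).1 (fun w hw => ?_) ?_).trans
          (Nat.mul_le_mul_left _ (ih fun s hs => h s (List.mem_cons_of_mem _ hs)))
        · rw [mul_assoc, Subgroup.mem_center_iff.1 t.1.2 w, inv_mul_cancel_left]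
          exact hw
        · rw [← SubmonoidClass.coe_pow, (h t (by simp)).2]
          exact one_mem _
    refine (key bl ?_).trans (le_of_eq ?_)
    · intro t ht
      simp only [bl, List.mem_map] at ht
      obtain ⟨b, hb, rfl⟩ := ht
      obtain ⟨h0, hd⟩ := hord b hb
      refine ⟨Nat.le_of_ble_eq_true h0, ?_⟩
      rw [← fev_scale, fev_of_denseEq z hzN hd, dval_combineD z hD, fev_nil, mul_one]
    · simp [bl, Cert.bound, List.map_map, Function.comp_def]
  obtain ⟨hW0, hle0⟩ := segment_bound C hp' x' B (fun d hd e => mem_center_iff.1 (hcen (hBker hd)) e) hsh hr'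
  let W0 : Subgroup Δ := B ⊔ closure (x' '' {j | j < C.m})
  have hmap : W0.map τ = closure (γ '' {i | i < C.m}) := by
    simp only [W0, Subgroup.map_sup, MonoidHom.map_closure, Set.image_image, hτx']
    rw [(Subgroup.map_eq_bot_iff B).2 hBker, bot_sup_eq]
  have hcount : Nat.card (W0 ⊓ τ.ker : Subgroup Δ) ≤ Nat.card B := by
    have e1 : Nat.card (τ.domRestrict W0).ker * (τ.domRestrict W0).ker.index = Nat.card W0 :=
      Subgroup.card_mul_index _
    rw [Subgroup.index_ker, MonoidHom.domRestrict_range, hmap] at e1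
    have e2 : Nat.card (τ.domRestrict W0).ker = Nat.card (W0 ⊓ τ.ker : Subgroup Δ) := by
      rw [Nat.card_congr (Subgroup.equivMapOfInjective (τ.domRestrict W0).ker W0.subtype W0.subtype_injective).toEquiv,
        MonoidHom.ker_domRestrict, Subgroup.subgroupOf_map_subtype, inf_comm]
    rw [e2] at e1
    refine Nat.le_of_mul_le_mul_left ?_ (pow_pos hp' C.m)
    calc C.p ^ C.m * _ ≤ Nat.card (closure (γ '' {i | i < C.m}) : Subgroup G) *
          Nat.card (W0 ⊓ τ.ker : Subgroup Δ) := Nat.mul_le_mul_right _ hcard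
      _ = Nat.card W0 := by rw [mul_comm, e1]
      _ ≤ _ := hW0
  have heqB : B = W0 ⊓ τ.ker := Subgroup.eq_of_le_of_card_ge (le_inf le_sup_left hBker) hcount
  refine ⟨B, hBbound, ?_⟩
  rw [heqB]
  refine inf_le_inf_right _ ?_
  rw [← hmap, Subgroup.comap_map_eq, commutator_le]
  intro s hs t ht
  obtain ⟨s, hs', k, hk, rfl⟩ := mem_sup_of_normal_right.1 hs
  obtain ⟨t, ht', l, hl, rfl⟩ := mem_sup_of_normal_right.1 ht
  have e : ⁅s * k, t * l⁆ = ⁅s, t⁆ := by
    rw [commutatorElement_def, commutatorElement_def]
    exact comm_central (hcen hk) (hcen hl) s t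
  rw [e, commutatorElement_def]
  exact mul_mem (mul_mem (mul_mem hs' ht') (inv_mem hs')) (inv_mem ht')

end CfsgLib.Spor.SchurCert
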