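import Mathlib

/-!
Formal products of unknown central elements, with checked linear relations among them.
-/

set_option autoImplicit false

namespace CfsgLib.Spor.SchurCert

/-- A formal product: pairs of a variable and an exponent. -/
abbrev Form := List (ℕ × ℕ)

/-- The total exponent of a variable. -/
def coef : Form → ℕ → ℕ
  | [], _ => 0
  | (v, c) :: L, i => (if v = i then c else 0) + coef L i

/-- A multiple of a form. -/
def scale (c : ℕ) (L : Form) : Form := L.map fun t => (t.1, c * t.2)

/-- Two forms have the same exponents modulo `N`. -/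
def formEq (N V : ℕ) (L M : Form) : Bool :=
  (L.all fun t => Nat.blt t.1 V) && (M.all fun t => Nat.blt t.1 V) &&
    (List.range V).all fun i => Nat.beq (coef L i % N) (coef M i % N)

variable {A : Type*} [CommGroup A] (z : ℕ → A)

/-- The value of a form. -/
def fev (L : Form) : A := (L.map fun t => z t.1 ^ t.2).prod

@[simp] theorem fev_nil : fev z [] = 1 := rfl

theorem fev_append (L M : Form) : fev z (L ++ M) = fev z L * fev z M := by
  simp [fev]

theorem fev_cons (v c : ℕ) (L : Form) : fev z ((v, c) :: L) = z v ^ c * fev z L := by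
  simp [fev]

theorem fev_scale (c : ℕ) (L : Form) : fev z (scale c L) = fev z L ^ c := by
  induction L with
  | nil => simp [scale]
  | cons t L ih =>
    rw [show scale c (t :: L) = (t.1, c * t.2) :: scale c L from rfl, fev_cons, ih, fev_cons, mul_pow,
      ← pow_mul, mul_comm c]

theorem fev_eq_prod {V : ℕ} : ∀ L : Form, (∀ t ∈ L, t.1 < V) → fev z L = ∏ i ∈ Finset.range V, z i ^ coef L i
  | [], _ => by simp [coef]
  | (v, c) :: L, h => by
    have hv : v < V := h (v, c) (by simp)
    rw [fev_cons, fev_eq_prod L fun t ht => h t (List.mem_cons_of_mem _ ht)]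
    simp only [coef, pow_add, Finset.prod_mul_distrib]
    congr 1
    rw [Finset.prod_eq_single v (fun i _ hi => by simp [Ne.symm hi]) (fun hn => absurd (Finset.mem_range.2 hv) hn)]
    simp

theorem fev_eq_of_formEq {N V : ℕ} (hN : ∀ i, z i ^ N = 1) {L M : Form} (h : formEq N V L M = true) :
    fev z L = fev z M := by
  simp only [formEq, Bool.and_eq_true, List.all_eq_true, List.mem_range] at h
  obtain ⟨⟨hL, hM⟩, he⟩ := h
  rw [fev_eq_prod z L fun t ht => Nat.le_of_ble_eq_true (hL t ht),
    fev_eq_prod z M fun t ht => Nat.le_of_ble_eq_true (hM t ht)]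
  refine Finset.prod_congr rfl fun i hi => ?_
  rw [← pow_mod (z i) (hN i) (coef L i), Nat.eq_of_beq_eq_true (he i (Finset.mem_range.1 hi)), pow_mod (z i) (hN i)]
where
  pow_mod (a : A) {N : ℕ} (h : a ^ N = 1) (n : ℕ) : a ^ (n % N) = a ^ n := by
    conv_rhs => rw [← Nat.mod_add_div n N, pow_add, pow_mul, h, one_pow, mul_one]

/-- The sum of chosen multiples of relations, as two sides. -/
def combine (eqs : List (Form × Form)) (C : List (ℕ × ℕ)) : Form × Form :=
  ((C.map fun t => scale t.2 (eqs.getD t.1 ([], [])).1).flatten,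
    (C.map fun t => scale t.2 (eqs.getD t.1 ([], [])).2).flatten)

/-- A relation follows from the given ones. -/
def derives (N V : ℕ) (eqs : List (Form × Form)) (L M : Form) (C : List (ℕ × ℕ)) : Bool :=
  formEq N V (L ++ (combine eqs C).2) (M ++ (combine eqs C).1)

theorem fev_combine {eqs : List (Form × Form)} (he : ∀ e ∈ eqs, fev z e.1 = fev z e.2) :
    ∀ C : List (ℕ × ℕ), fev z (combine eqs C).1 = fev z (combine eqs C).2
  | [] => rfl
  | t :: C => by
    have ih := fev_combine he C
    simp only [combine] at ih ⊢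
    simp only [List.map_cons, List.flatten_cons, fev_append, fev_scale, ih]
    congr 1
    by_cases ht : t.1 < eqs.length
    · rw [List.getD_eq_getElem _ _ ht, he _ (List.getElem_mem ht)]
    · rw [List.getD_eq_default _ _ (by omega)]

theorem fev_eq_of_derives {N V : ℕ} (hN : ∀ i, z i ^ N = 1) {eqs : List (Form × Form)}
    (he : ∀ e ∈ eqs, fev z e.1 = fev z e.2) {L M : Form} {C : List (ℕ × ℕ)} (h : derives N V eqs L M C = true) :
    fev z L = fev z M := by
  have e := fev_eq_of_formEq z hN h
  rw [fev_append, fev_append, fev_combine z he C] at e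
  exact mul_right_cancel e

/-- Entrywise sum. -/
def addv : List ℕ → List ℕ → List ℕ
  | [], b => b
  | a, [] => a
  | x :: a, y :: b => (x + y) :: addv a b

theorem getD_addv : ∀ (a b : List ℕ) (i : ℕ), (addv a b).getD i 0 = a.getD i 0 + b.getD i 0
  | [], b, i => by simp [addv]
  | x :: a, [], i => by simp [addv]
  | x :: a, y :: b, 0 => by simp [addv]
  | x :: a, y :: b, i + 1 => by
    rw [addv, List.getD_cons_succ, List.getD_cons_succ, List.getD_cons_succ, getD_addv a b i]

theorem getD_map_mul (c : ℕ) : ∀ (a : List ℕ) (i : ℕ), (a.map (c * ·)).getD i 0 = c * a.getD i 0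
  | [], i => by simp
  | x :: a, 0 => by simp
  | x :: a, i + 1 => by rw [List.map_cons, List.getD_cons_succ, List.getD_cons_succ, getD_map_mul c a i]

/-- A combination of dense relations. -/
def combineD (E : List (List ℕ)) (C : List (ℕ × ℕ)) : List ℕ :=
  C.foldr (fun t acc => addv ((E.getD t.1 []).map (t.2 * ·)) acc) []

/-- The value of a dense vector. -/
def dval (V : ℕ) (d : List ℕ) : A := ∏ i ∈ Finset.range V, z i ^ d.getD i 0

theorem dval_combineD {V : ℕ} {E : List (List ℕ)} (hE : ∀ d ∈ E, dval z V d = 1) :
    ∀ C : List (ℕ × ℕ), dval z V (combineD E C) = 1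
  | [] => by simp [combineD, dval]
  | t :: C => by
    have ih := dval_combineD hE C
    simp only [combineD, List.foldr_cons, dval, getD_addv, getD_map_mul, pow_add, Finset.prod_mul_distrib,
      pow_mul'] at ih ⊢
    rw [ih, mul_one, Finset.prod_pow]
    by_cases ht : t.1 < E.length
    · rw [List.getD_eq_getElem _ _ ht]
      have := hE _ (List.getElem_mem ht)
      rw [dval] at this
      rw [this, one_pow]
    · rw [List.getD_eq_default _ _ (by omega)]
      simp

/-- `L` is `M` times the dense vector, modulo `N`. -/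
def denseEq (N V : ℕ) (L M : Form) (d : List ℕ) : Bool :=
  (L.all fun t => Nat.blt t.1 V) && (M.all fun t => Nat.blt t.1 V) &&
    (List.range V).all fun i => Nat.beq (coef L i % N) ((coef M i + d.getD i 0) % N)

theorem fev_of_denseEq {N V : ℕ} (hN : ∀ i, z i ^ N = 1) {L M : Form} {d : List ℕ}
    (h : denseEq N V L M d = true) : fev z L = fev z M * dval z V d := by
  simp only [denseEq, Bool.and_eq_true, List.all_eq_true, List.mem_range] at h
  obtain ⟨⟨hL, hM⟩, he⟩ := h
  rw [fev_eq_prod z L fun t ht => Nat.le_of_ble_eq_true (hL t ht),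
    fev_eq_prod z M fun t ht => Nat.le_of_ble_eq_true (hM t ht), dval, ← Finset.prod_mul_distrib]
  refine Finset.prod_congr rfl fun i hi => ?_
  rw [← pow_add, ← pow_mod_exp (z i) (hN i) (coef L i), Nat.eq_of_beq_eq_true (he i (Finset.mem_range.1 hi)),
    pow_mod_exp (z i) (hN i)]
where
  pow_mod_exp (a : A) {N : ℕ} (h : a ^ N = 1) (n : ℕ) : a ^ (n % N) = a ^ n := by
    conv_rhs => rw [← Nat.mod_add_div n N, pow_add, pow_mul, h, one_pow, mul_one]

end CfsgLib.Spor.SchurCert
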