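import Cfsg.Agent.Lib.Spor.SchurCert.LinTwo

/-!
The linear checks modulo two with the selection of relations packed as bits too.
-/

set_option autoImplicit false

namespace CfsgLib.Spor.SchurCert

/-- The sum of the masks selected by bits. -/
def xorBits : List ℕ → ℕ → ℕ
  | [], _ => 0
  | d :: D, r => Nat.xor (bif Nat.beq (r % 2) 1 then d else 0) (xorBits D (r / 2))

/-- The selected places. -/
def selList : List ℕ → ℕ → List ℕ
  | [], _ => []
  | _ :: D, r => (bif Nat.beq (r % 2) 1 then [0] else []) ++ (selList D (r / 2)).map (· + 1)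

theorem xorSel_append (D : List ℕ) : ∀ l l' : List ℕ, xorSel D (l ++ l') = Nat.xor (xorSel D l) (xorSel D l')
  | [], l' => by simp [xorSel, show ∀ a b : ℕ, Nat.xor a b = a ^^^ b from fun _ _ => rfl]
  | q :: l, l' => by
    simp only [List.cons_append, xorSel, xorSel_append D l l', show ∀ a b : ℕ, Nat.xor a b = a ^^^ b from fun _ _ => rfl,
      Nat.xor_assoc]

theorem xorSel_shift (d : ℕ) (D : List ℕ) : ∀ l : List ℕ, xorSel (d :: D) (l.map (· + 1)) = xorSel D l
  | [] => rfl
  | q :: l => by simp [xorSel, xorSel_shift d D l]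

theorem xorSel_selList : ∀ (D : List ℕ) (r : ℕ), xorSel D (selList D r) = xorBits D r
  | [], r => rfl
  | d :: D, r => by
    rw [selList, xorBits, xorSel_append, xorSel_shift, xorSel_selList D (r / 2)]
    congr 1
    cases Nat.beq (r % 2) 1 <;> simp [xorSel, show ∀ a b : ℕ, Nat.xor a b = a ^^^ b from fun _ _ => rfl]

variable (C : Cert)

/-- The linear checks with masks and bit selections. -/
def Cert.bitsOK (D : List ℕ) (rows : List ℕ) : Bool :=
  Nat.beq C.N 2 && C.base.isEmpty && maskAll C.nv C.eqs D &&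
  Nat.beq rows.length C.rules.length &&
  (List.range C.rules.length).all fun r =>
    varsOK C.nv ((r, 1) :: C.adjW (C.rules.getD r ([], [])).1) && varsOK C.nv (C.adjW (C.rules.getD r ([], [])).2) &&
    Nat.beq (Nat.xor (maskF ((r, 1) :: C.adjW (C.rules.getD r ([], [])).1)) (maskF (C.adjW (C.rules.getD r ([], [])).2)))
      (xorBits D (rows.getD r 0))

theorem maskOK_of_bitsOK {D : List ℕ} {rows : List ℕ} (h : C.bitsOK D rows = true) :
    C.maskOK D (rows.map (selList D)) = true := by
  simp only [Cert.bitsOK, Bool.and_eq_true, List.all_eq_true, List.mem_range] at h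
  obtain ⟨⟨⟨⟨hN, hb⟩, hall⟩, hlen⟩, hrow⟩ := h
  simp only [Cert.maskOK, Bool.and_eq_true, List.all_eq_true, List.mem_range]
  refine ⟨⟨⟨hN, hb⟩, hall⟩, fun r hr => ?_⟩
  obtain ⟨⟨h1, h2⟩, h3⟩ := hrow r hr
  have hr' : r < rows.length := (Nat.eq_of_beq_eq_true hlen).symm ▸ hr
  refine ⟨⟨h1, h2⟩, ?_⟩
  rw [List.getD_eq_getElem (l := rows.map _) _ (by rw [List.length_map]; exact hr'), List.getElem_map, xorSel_selList]
  rwa [List.getD_eq_getElem (l := rows) _ hr'] at h3

end CfsgLib.Spor.SchurCert
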