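import Cfsg.Agent.Lib.Spor.SchurCert.LinBits

/-!
The mask check split into consecutive pieces.
-/

set_option autoImplicit false

namespace CfsgLib.Spor.SchurCert

theorem maskAll_append (V : ℕ) : ∀ (es es' : List (Form × Form)) (D D' : List ℕ),
    maskAll V es D = true → maskAll V es' D' = true → maskAll V (es ++ es') (D ++ D') = true
  | [], _, [], _, _, h' => h'
  | [], _, _ :: _, _, h, _ => by simp [maskAll] at h
  | _ :: _, _, [], _, h, _ => by simp [maskAll] at h
  | e :: es, es', d :: D, D', h, h' => by
    simp only [maskAll, Bool.and_eq_true, List.cons_append] at h ⊢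
    exact ⟨h.1, maskAll_append V es es' D D' h.2 h'⟩

variable (C : Cert)

/-- The rules follow from the selected relations. -/
def Cert.rowsOK (D : List ℕ) (rows : List ℕ) : Bool :=
  Nat.beq C.N 2 && C.base.isEmpty && Nat.beq rows.length C.rules.length &&
  (List.range C.rules.length).all fun r =>
    varsOK C.nv ((r, 1) :: C.adjW (C.rules.getD r ([], [])).1) && varsOK C.nv (C.adjW (C.rules.getD r ([], [])).2) &&
    Nat.beq (Nat.xor (maskF ((r, 1) :: C.adjW (C.rules.getD r ([], [])).1)) (maskF (C.adjW (C.rules.getD r ([], [])).2)))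
      (xorBits D (rows.getD r 0))

/-- The overlap relations in a range agree with their masks. -/
def Cert.ovChunk (D : List ℕ) (i n : ℕ) : Bool :=
  maskAll C.nv (((C.overlaps.drop i).take n).map C.ovEq) (((D.take C.overlaps.length).drop i).take n)

/-- The conjugation relations in a range agree with their masks. -/
def Cert.fuChunk (D : List ℕ) (i n : ℕ) : Bool :=
  maskAll C.nv (((C.fuses.drop i).take n).map C.fuEq) ((D.drop (C.overlaps.length + i)).take n)

theorem chunks_append {α : Type} (f : α → Form × Form) (V : ℕ) (l : List α) (D : List ℕ) (n m : ℕ)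
    (h1 : maskAll V ((l.take n).map f) (D.take n) = true)
    (h2 : maskAll V (((l.drop n).take m).map f) ((D.drop n).take m) = true) :
    maskAll V ((l.take (n + m)).map f) (D.take (n + m)) = true := by
  rw [List.take_add, List.take_add, List.map_append]
  exact maskAll_append V _ _ _ _ h1 h2

theorem all_chunks {α : Type} (f : α → Form × Form) (V k : ℕ) (l : List α) (D : List ℕ) :
    ∀ n : ℕ, (∀ i < n, maskAll V (((l.drop (i * k)).take k).map f) ((D.drop (i * k)).take k) = true) →
      maskAll V ((l.take (n * k)).map f) (D.take (n * k)) = true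
  | 0, _ => by simp [maskAll]
  | n + 1, h => by
    rw [Nat.succ_mul]
    exact chunks_append f V l D _ _ (all_chunks f V k l D n fun i hi => h i (by omega)) (h n (by omega))

theorem bitsOK_of_chunks {D : List ℕ} {rows : List ℕ} {k no nf : ℕ}
    (hov : ∀ i < no, C.ovChunk D (i * k) k = true) (hfu : ∀ i < nf, C.fuChunk D (i * k) k = true)
    (hrows : C.rowsOK D rows = true) (hno : C.overlaps.length ≤ no * k) (hnf : C.fuses.length ≤ nf * k)
    (hD : D.length = C.overlaps.length + C.fuses.length) : C.bitsOK D rows = true := by
  have h1 := all_chunks C.ovEq C.nv k C.overlaps (D.take C.overlaps.length) no fun i hi => hov i hi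
  rw [List.take_of_length_le hno, List.take_of_length_le (by rw [List.length_take]; omega)] at h1
  have h2 := all_chunks C.fuEq C.nv k C.fuses (D.drop C.overlaps.length) nf fun i hi => by
    have h := hfu i hi
    rwa [Cert.fuChunk, ← List.drop_drop] at h
  rw [List.take_of_length_le hnf, List.take_of_length_le (by rw [List.length_drop]; omega)] at h2
  simp only [Cert.rowsOK, Bool.and_eq_true] at hrows
  simp only [Cert.bitsOK, Bool.and_eq_true]
  refine ⟨⟨⟨hrows.1.1, ?_⟩, hrows.1.2⟩, hrows.2⟩
  have := maskAll_append C.nv _ _ _ _ h1 h2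
  rwa [List.take_append_drop] at this

end CfsgLib.Spor.SchurCert
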