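import Cfsg.Agent.Lib.Spor.SchurCert.Forms
import Cfsg.Prelude.Def_KGroupFacts

/-!
Rewriting of words in lifts of polycyclic generators, keeping track of the central elements produced.
-/

set_option autoImplicit false

namespace CfsgLib.Spor.SchurCert

/-- A word with a prefix and a suffix around a rule. -/
def stepW (rules : List (List ℕ × List ℕ)) (w : List ℕ) (r pos : ℕ) : Option (List ℕ) :=
  let lhs := (rules.getD r ([], [])).1
  if (w.drop pos).take lhs.length == lhs && Nat.blt r rules.length then
    some (w.take pos ++ (rules.getD r ([], [])).2 ++ w.drop (pos + lhs.length))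
  else none

/-- Successive rewriting, with the rules used. -/
def runW (rules : List (List ℕ × List ℕ)) : List ℕ → List (ℕ × ℕ) → Option (List ℕ × Form)
  | w, [] => some (w, [])
  | w, (r, pos) :: rest =>
    match stepW rules w r pos with
    | none => none
    | some w' =>
      match runW rules w' rest with
      | none => none
      | some (v, f) => some (v, (r, 1) :: f)

variable {Δ : Type*} [Group Δ]

open scoped IsMulCommutative

/-- The value of a word. -/
def wv (x : ℕ → Δ) (w : List ℕ) : Δ := (w.map x).prod

@[simp] theorem wv_nil (x : ℕ → Δ) : wv x [] = 1 := rfl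

theorem wv_append (x : ℕ → Δ) (v w : List ℕ) : wv x (v ++ w) = wv x v * wv x w := by simp [wv]

theorem wv_cons (x : ℕ → Δ) (a : ℕ) (w : List ℕ) : wv x (a :: w) = x a * wv x w := by simp [wv]

theorem wv_replicate (x : ℕ → Δ) (a n : ℕ) : wv x (List.replicate n a) = x a ^ n := by simp [wv]

variable {rules : List (List ℕ × List ℕ)} {x : ℕ → Δ} {z : ℕ → Subgroup.center Δ}
  (hr : ∀ r, r < rules.length →
    wv x (rules.getD r ([], [])).1 = wv x (rules.getD r ([], [])).2 * (z r : Δ))
include hr

theorem wv_stepW {w w' : List ℕ} {r pos : ℕ} (h : stepW rules w r pos = some w') :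
    wv x w = wv x w' * (z r : Δ) := by
  simp only [stepW, Option.ite_none_right_eq_some, Option.some.injEq, Bool.and_eq_true, beq_iff_eq] at h
  obtain ⟨⟨h1, h2⟩, rfl⟩ := h
  set lhs := (rules.getD r ([], [])).1
  have e : w = w.take pos ++ lhs ++ w.drop (pos + lhs.length) := by
    conv_lhs => rw [← List.take_append_drop pos w, ← List.take_append_drop lhs.length (w.drop pos), h1]
    rw [List.drop_drop, List.append_assoc]
  conv_lhs => rw [e]
  have hc := fun y : Δ => Subgroup.mem_center_iff.1 (z r).2 y
  rw [wv_append, wv_append, wv_append, wv_append, hr r (Nat.le_of_ble_eq_true h2)]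
  simp only [mul_assoc]
  rw [← hc]

theorem wv_runW : ∀ {steps : List (ℕ × ℕ)} {w v : List ℕ} {f : Form}, runW rules w steps = some (v, f) →
    wv x w = wv x v * ((fev z f : Subgroup.center Δ) : Δ)
  | [], w, v, f, h => by
    simp only [runW, Option.some.injEq, Prod.mk.injEq] at h
    obtain ⟨rfl, rfl⟩ := h
    simp
  | (r, pos) :: rest, w, v, f, h => by
    simp only [runW] at h
    split at h
    · simp at h
    next w' hw =>
      split at h
      · simp at h
      next v' f' hv =>
        simp only [Option.some.injEq, Prod.mk.injEq] at h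
        obtain ⟨rfl, rfl⟩ := h
        rw [wv_stepW hr hw, wv_runW hv, fev_cons, pow_one, mul_assoc, Subgroup.coe_mul]
        congr 1
        exact Subgroup.mem_center_iff.1 (z r).2 _

end CfsgLib.Spor.SchurCert
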